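import Cfsg.Agent.H551.OddTwoNeg

/-!
# S4785, characteristic two: the Weyl groups of type `D` (helper551)

* `evenPar_TypeD` : `EvenPar (TypeD.M n)` for `n ≥ 1`: the sign changes form a `2`-group with no conjugate inside a proper
  parabolic subgroup.
-/

set_option autoImplicit false

namespace Cfsg.Agent.H551.OddTwo

open CoxeterSystem Cfsg.Agent.ChevalleyStructure.CoxeterGeom Cfsg.Agent.Tits.Roots Cfsg.Agent.Tits.Core
  Cfsg.Agent.Tits.RootComb
open Cfsg.Agent.Nodes.TypeC (ng wt wt_ng ng_fst wt_apply)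
open Cfsg.Agent.Nodes.TypeD

variable {n : ℕ}

/-- the passage to `ε`-coordinates as a linear map -/
def eeL (n : ℕ) : (Fin (n + 2) → ℤ) →ₗ[ℤ] (Fin (n + 2) → ℤ) where
  toFun := ee
  map_add' := ee_add
  map_smul' c x := ee_smul c x

/-- `w` acts by signs in the `ε`-coordinates -/
def Sgn (w : (M n).Group) (σ : Fin (n + 2) → ℤ) : Prop :=
  ∀ x j, ee (rep (M n).toCoxeterSystem (isCartan n) w x) j = σ j * ee x j

/-- the group of sign changes -/
def EE (n : ℕ) : Subgroup (M n).Group where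
  carrier := {w | ∃ σ : Fin (n + 2) → ℤ, (∀ j, σ j * σ j = 1) ∧ Sgn w σ}
  one_mem' := ⟨fun _ => 1, fun _ => rfl, fun x j => by rw [map_one, Module.End.one_apply, one_mul]⟩
  mul_mem' := by
    rintro a b ⟨σ, h1, h2⟩ ⟨τ, h3, h4⟩
    refine ⟨fun j => σ j * τ j, fun j => ?_, fun x j => ?_⟩
    · calc σ j * τ j * (σ j * τ j) = (σ j * σ j) * (τ j * τ j) := by ring
        _ = 1 := by rw [h1, h3, one_mul]
    · rw [rep_mul_apply, h2, h4, mul_assoc]
  inv_mem' := by
    rintro a ⟨σ, h1, h2⟩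
    refine ⟨σ, h1, fun x j => ?_⟩
    have h3 := h2 (rep (M n).toCoxeterSystem (isCartan n) a⁻¹ x) j
    rw [rep_apply_inv] at h3
    rw [h3, ← mul_assoc, h1, one_mul]

theorem sq_of_mem_EE {w : (M n).Group} (hw : w ∈ EE n) : w ^ 2 = 1 := by
  obtain ⟨σ, h1, h2⟩ := hw
  apply rep_injective (M n).toCoxeterSystem (isCartan n)
  rw [map_one]
  refine LinearMap.ext fun x => ee_injective ?_
  funext j
  rw [sq, rep_mul_apply, h2, h2, ← mul_assoc, h1, one_mul]
  rfl

theorem isPGroup_EE : IsPGroup 2 (EE n) := fun ⟨w, hw⟩ => ⟨1, Subtype.ext (by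
  change w ^ 2 ^ 1 = 1
  rw [pow_one]
  exact sq_of_mem_EE hw)⟩

/-- the sign change of the coordinates `k`, `k + 1` -/
theorem exists_flip (k : ℕ) (hk : k ≤ n) :
    ∃ w ∈ EE n, Sgn w (fun j => if (j : ℕ) = k ∨ (j : ℕ) = k + 1 then -1 else 1) := by
  obtain ⟨ω, hω⟩ := gen_flipD (n := n) (n - k) k (by omega)
  have key : ∀ (ω : List (Fin (n + 2))) (x : Fin (n + 2) → ℤ) (a b : Fin (n + 2) × Bool), ee x = wt a + wt b →
      ee (rep (M n).toCoxeterSystem (isCartan n) ((M n).toCoxeterSystem.wordProd ω) x) =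
        wt (ω.foldr sg a) + wt (ω.foldr sg b) := by
    intro ω x a b hx
    induction ω with
    | nil => rw [wordProd_nil, map_one]; exact hx
    | cons j ω ih => rw [wordProd_cons, rep_mul_apply, rep_simple, ee_refl_of ih]; rfl
  set σ : Fin (n + 2) → ℤ := fun j => if (j : ℕ) = k ∨ (j : ℕ) = k + 1 then -1 else 1 with hσ
  have hwt : ∀ (a : Fin (n + 2) × Bool) (j : Fin (n + 2)), wt (flipD k (k + 1) a) j = σ j * wt a j := by
    intro a j
    by_cases h : (a.1 : ℕ) = k ∨ (a.1 : ℕ) = k + 1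
    · rw [flipD_pos h, wt_ng, Pi.neg_apply, wt_apply]
      by_cases hj : j = a.1
      · rw [hσ]
        simp only
        rw [hj, if_pos h]
        ring
      · rw [if_neg hj]; ring
    · rw [flipD_neg h, wt_apply]
      by_cases hj : j = a.1
      · rw [hσ]
        simp only
        rw [hj, if_neg h]
        ring
      · rw [if_neg hj]; ring
  have hS : Sgn ((M n).toCoxeterSystem.wordProd ω) σ := by
    intro x j
    have hlin : ((LinearMap.proj j : (Fin (n + 2) → ℤ) →ₗ[ℤ] ℤ).comp (eeL n)).comp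
        (rep (M n).toCoxeterSystem (isCartan n) ((M n).toCoxeterSystem.wordProd ω)) =
        σ j • (LinearMap.proj j : (Fin (n + 2) → ℤ) →ₗ[ℤ] ℤ).comp (eeL n) := by
      refine LinearMap.pi_ext' fun i => LinearMap.ext_ring ?_
      have h1 := congrFun (key ω (sr i) (i, true) (nx i) (ee_sr i)) j
      rw [hω, hω, Pi.add_apply, hwt, hwt, ← mul_add, ← Pi.add_apply] at h1
      have h2 : ee (sr i) j = (wt (i, true) + wt (nx i)) j := congrFun (ee_sr i) j
      rw [← h2] at h1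
      exact h1
    exact LinearMap.congr_fun hlin x
  refine ⟨_, ⟨σ, fun j => ?_, hS⟩, hS⟩
  rw [hσ]
  simp only
  split_ifs <;> norm_num

/-- twice an `ε`-vector is a difference `x - w x`, `w` a sign change -/
theorem exists_two (hn : 1 ≤ n) (a : Fin (n + 2)) :
    ∃ w ∈ EE n, ∃ x, ee (x - rep (M n).toCoxeterSystem (isCartan n) w x) = 2 • wt (a, true) := by
  -- the flip `k, k + 1` moves `a` and fixes `c`
  obtain ⟨k, c, hk, hka, hc⟩ : ∃ (k : ℕ) (c : Fin (n + 2)), k ≤ n ∧ ((a : ℕ) = k ∨ (a : ℕ) = k + 1) ∧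
      ¬ ((c : ℕ) = k ∨ (c : ℕ) = k + 1) := by
    have ha := a.2
    by_cases h1 : (a : ℕ) = 0
    · exact ⟨0, ⟨2, by omega⟩, by omega, Or.inl h1, by simp only; omega⟩
    · by_cases h2 : (a : ℕ) = 1
      · exact ⟨0, ⟨2, by omega⟩, by omega, Or.inr (by omega), by simp only; omega⟩
      · exact ⟨a - 1, ⟨0, by omega⟩, by omega, Or.inr (by omega), by simp only; omega⟩
  obtain ⟨w, hw, hS⟩ := exists_flip k hk
  have hac : a ≠ c := by rintro rfl; exact hc hka
  obtain ⟨x, -, hx⟩ := rt_of_ok (cs := (M n).toCoxeterSystem) (a := (a, true)) (b := (c, true)) hac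
  refine ⟨w, hw, x, ?_⟩
  funext j
  have h1 : ee (x - rep (M n).toCoxeterSystem (isCartan n) w x) j =
      ee x j - ee (rep (M n).toCoxeterSystem (isCartan n) w x) j := by
    rw [sub_eq_add_neg, ee_add, ee_neg, Pi.add_apply, Pi.neg_apply, sub_eq_add_neg]
  rw [h1, hS, hx, Pi.add_apply, Pi.smul_apply, wt_apply, wt_apply]
  simp only
  by_cases hj : j = a
  · subst hj
    rw [if_pos rfl, if_neg hac, if_pos hka]
    norm_num
  · rw [if_neg hj]
    by_cases hj' : j = c
    · subst hj'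
      rw [if_pos rfl, if_neg hc]
      norm_num
    · rw [if_neg hj']
      norm_num

theorem evenPar_TypeD (hn : 1 ≤ n) [Finite (M n).Group] : EvenPar (M n) := by
  intro J hJ
  refine ⟨∅, ?_⟩
  rw [par_empty]
  by_contra hodd
  rw [Nat.not_even_iff_odd] at hodd
  obtain ⟨k, hk⟩ : ∃ k, k ∉ J := by
    by_contra hcon
    push Not at hcon
    exact hJ (Set.eq_univ_of_forall hcon)
  obtain ⟨g, hg⟩ := Cfsg.Agent.H453.OddM.Cov.two_group hodd (isPGroup_EE (n := n))
  set r := rep (M n).toCoxeterSystem (isCartan n) with hr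
  -- the functional
  let φ : (Fin (n + 2) → ℤ) →ₗ[ℤ] ℤ := (LinearMap.proj k : (Fin (n + 2) → ℤ) →ₗ[ℤ] ℤ).comp (r g)
  have hφ : ∀ w ∈ EE n, ∀ x, φ (r w x) = φ x := by
    intro w hw x
    change r g (r w x) k = r g x k
    have h1 := rep_apply_of_mem (M n).toCoxeterSystem (isCartan n) (hg w hw) (r g x) hk
    rw [← hr, rep_mul_apply, rep_mul_apply, ← hr, rep_inv_apply] at h1
    exact h1
  have h2 : ∀ a : Fin (n + 2), ∃ y, ee y = 2 • wt (a, true) ∧ φ y = 0 := by
    intro a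
    obtain ⟨w, hw, x, hx⟩ := exists_two hn a
    exact ⟨_, hx, by rw [map_sub, ← hr, hφ w hw, sub_self]⟩
  have h3 : ∀ a : Fin (n + 2) × Bool, ∃ y, ee y = 2 • wt a ∧ φ y = 0 := by
    rintro ⟨a, s⟩
    obtain ⟨y, hy, hy'⟩ := h2 a
    cases s
    · refine ⟨-y, ?_, by rw [map_neg, hy', neg_zero]⟩
      have h4 : wt (a, false) = -wt (a, true) := wt_ng (a, true)
      rw [ee_neg, hy, h4, smul_neg]
    · exact ⟨y, hy, hy'⟩
  have h4 : ∀ i, φ (sr i) = 0 := by
    intro i
    obtain ⟨y, hy, hy'⟩ := h3 (i, true)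
    obtain ⟨z, hz, hz'⟩ := h3 (nx i)
    have h5 : (2 : ℤ) • sr i = y + z := by
      apply ee_injective
      rw [ee_smul, ee_add, hy, hz, ee_sr, bt, smul_add]
      rfl
    have h6 : (2 : ℤ) • φ (sr i) = 0 := by rw [← map_smul, h5, map_add, hy', hz', add_zero]
    exact (smul_eq_zero.1 h6).resolve_left (by norm_num)
  have h5 : φ = 0 := LinearMap.pi_ext' fun i => LinearMap.ext_ring (h4 i)
  have h6 : φ (r g⁻¹ (sr k)) = 1 := by
    change r g (r g⁻¹ (sr k)) k = 1
    rw [hr, rep_apply_inv, sr_self]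
  rw [h5] at h6
  exact absurd h6 (by norm_num)

end Cfsg.Agent.H551.OddTwo
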