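import Cfsg.Agent.H453.OddM.Defs
import Cfsg.Agent.FixBN.Split
import Cfsg.Agent.Tits.OfBN

/-!
# S4785, characteristic two: the abstract theorem (helper551)

`G` a finite simple group with a split (B,N)-pair of characteristic `2` and of type `M`, `R` with `RO G R`.

* `exists_par` : if `R ≠ ⊤`, then there is a proper subgroup `Q` containing `B` such that all the subgroups `K`
  containing `B` have an odd number of orbits on `G ⧸ Q`;
* `card_orb_par` : for `Q = P_J`, `K = P_K` this is the number of orbits of `W_K` on `W ⧸ W_J`;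
* `Par M J K` : this number, in the Coxeter group of `M`;
* `EvenPar M` : for each proper `J` there is `K` with `Par M J K` even;
* `row_of_type` : `Row G` if `EvenPar M`;
* `evenPar_of_central` : `EvenPar M` if there is a central involution which is in no proper parabolic subgroup.
-/

set_option autoImplicit false

namespace Cfsg.Agent.H551.OddTwo

open Cfsg Cfsg.Agent.H453.OddM Cfsg.Agent.FixBN Cfsg.Agent.LieExceptional.BNPairCore Cfsg.Agent.Tits.Core
  Cfsg.Agent.Tits.OfBN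

/-! ### orbits -/

theorem card_eq_of_ker {X A B : Type*} (φ : X → A) (ψ : X → B) (hφ : Function.Surjective φ)
    (hψ : Function.Surjective ψ) (h : ∀ x y, φ x = φ y ↔ ψ x = ψ y) : Nat.card A = Nat.card B := by
  have e1 := (Setoid.quotientKerEquivOfSurjective φ hφ).symm
  have e2 : Quotient (Setoid.ker φ) ≃ Quotient (Setoid.ker ψ) :=
    Quotient.congr (Equiv.refl X) (fun a b => h a b)
  exact Nat.card_congr (e1.trans (e2.trans (Setoid.quotientKerEquivOfSurjective ψ hψ)))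

section orb

variable {G G' : Type*} [Group G] [Group G']

/-- the orbit of `x` -/
def orb (K Q : Subgroup G) (x : G) : MulAction.orbitRel.Quotient K (G ⧸ Q) := Quotient.mk'' (QuotientGroup.mk x : G ⧸ Q)

theorem orb_surjective (K Q : Subgroup G) : Function.Surjective (orb K Q) := by
  intro ω
  induction ω using Quotient.inductionOn' with
  | _ a =>
  obtain ⟨x, rfl⟩ := QuotientGroup.mk_surjective a
  exact ⟨x, rfl⟩

theorem orb_eq_iff {K Q : Subgroup G} {x y : G} : orb K Q x = orb K Q y ↔ ∃ k ∈ K, ∃ q ∈ Q, x = k * y * q := by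
  unfold orb
  rw [Quotient.eq'', MulAction.orbitRel_apply]
  constructor
  · rintro ⟨⟨k, hk⟩, h⟩
    have h1 : (QuotientGroup.mk (k * y) : G ⧸ Q) = QuotientGroup.mk x := h
    rw [QuotientGroup.eq] at h1
    exact ⟨k, hk, _, h1, by group⟩
  · rintro ⟨k, hk, q, hq, rfl⟩
    refine ⟨⟨k, hk⟩, ?_⟩
    change (QuotientGroup.mk (k * y) : G ⧸ Q) = QuotientGroup.mk (k * y * q)
    rw [QuotientGroup.eq]
    have h1 : (k * y)⁻¹ * (k * y * q) = q := by group
    rwa [h1]

theorem card_orb_map {K Q : Subgroup G} {K' Q' : Subgroup G'} (f : G → G') (hf : Function.Surjective f)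
    (h : ∀ x y, (∃ k ∈ K, ∃ q ∈ Q, x = k * y * q) ↔ (∃ k ∈ K', ∃ q ∈ Q', f x = k * f y * q)) :
    Nat.card (MulAction.orbitRel.Quotient K (G ⧸ Q)) = Nat.card (MulAction.orbitRel.Quotient K' (G' ⧸ Q')) := by
  refine card_eq_of_ker (orb K Q) (fun x => orb K' Q' (f x)) (orb_surjective K Q)
    ((orb_surjective K' Q').comp hf) fun x y => ?_
  rw [orb_eq_iff, orb_eq_iff]
  exact h x y

/-- the orbits of `K` on `G ⧸ R` and `G ⧸ (R ⊔ B)` -/
theorem card_orb_sup {K R B : Subgroup G} (h : ∀ y : G, ∀ b ∈ B, ∃ k ∈ K, ∃ r ∈ R, y * b = k * y * r) :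
    Nat.card (MulAction.orbitRel.Quotient K (G ⧸ R)) = Nat.card (MulAction.orbitRel.Quotient K (G ⧸ (R ⊔ B))) := by
  have key : ∀ q ∈ R ⊔ B, ∀ y : G, ∃ k ∈ K, ∃ r ∈ R, y * q = k * y * r := by
    intro q hq
    rw [Subgroup.sup_eq_closure_mul] at hq
    induction hq using Subgroup.closure_induction with
    | mem x hx =>
      obtain ⟨r, hr, b, hb, rfl⟩ := Set.mem_mul.1 hx
      intro y
      obtain ⟨k, hk, r', hr', h1⟩ := h (y * r) b hb
      exact ⟨k, hk, r * r', mul_mem hr hr', by rw [← mul_assoc, h1]; group⟩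
    | one => intro y; exact ⟨1, one_mem _, 1, one_mem _, by group⟩
    | mul a b _ _ iha ihb =>
      intro y
      obtain ⟨k, hk, r, hr, h1⟩ := iha y
      obtain ⟨k', hk', r', hr', h2⟩ := ihb (y * a)
      refine ⟨k' * k, mul_mem hk' hk, r * r', mul_mem hr hr', ?_⟩
      rw [← mul_assoc, h2, h1]
      group
    | inv a _ ih =>
      intro y
      obtain ⟨k, hk, r, hr, h1⟩ := ih (y * a⁻¹)
      rw [inv_mul_cancel_right] at h1
      refine ⟨k⁻¹, inv_mem hk, r⁻¹, inv_mem hr, ?_⟩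
      conv_rhs => rw [h1]
      group
  refine card_orb_map id Function.surjective_id fun x y => ?_
  constructor
  · rintro ⟨k, hk, r, hr, h1⟩
    exact ⟨k, hk, r, (le_sup_left : R ≤ R ⊔ B) hr, h1⟩
  · rintro ⟨k, hk, q, hq, h1⟩
    obtain ⟨k', hk', r, hr, h2⟩ := key q hq y
    refine ⟨k * k', mul_mem hk hk', r, hr, ?_⟩
    rw [id, id, mul_assoc, h2] at h1
    rw [h1]
    group

end orb

/-! ### the subgroup `Q` -/

section par

variable {G : Type*} [Group G] {P : Cfsg.BNPair G} {U : Subgroup G} {p : ℕ}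

/-- `y B ⊆ B y U` -/
theorem exists_mul_eq (hS : Split P p U) (y : G) {b : G} (hb : b ∈ P.B) :
    ∃ c ∈ P.B, ∃ u ∈ U, y * b = c * y * u := by
  have hc : ∀ b ∈ P.B, ∃ t, t ∈ P.B ∧ t ∈ P.N ∧ ∃ u ∈ U, b = t * u := by
    intro b hb
    obtain ⟨u, hu, t, ht, rfl⟩ := hS.cover' hb
    obtain ⟨ht1, ht2⟩ := Subgroup.mem_inf.1 ht
    refine ⟨t, ht1, ht2, t⁻¹ * u * t, ?_, by group⟩
    simpa using hS.norm t⁻¹ (inv_mem ht1) u hu
  obtain ⟨n, hn, hy⟩ := bruhat (P := P) y
  obtain ⟨b₁, hb₁, b₂, hb₂, rfl⟩ := mem_C.1 hy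
  obtain ⟨t₂, h2, h2', u₂, hu₂, rfl⟩ := hc b₂ hb₂
  obtain ⟨t₃, h3, h3', u₃, hu₃, e3⟩ := hc (t₂ * u₂ * b) (mul_mem hb₂ hb)
  have c2 := P.conj_mem n hn t₂ (Subgroup.mem_inf.2 ⟨h2, h2'⟩)
  have c3 := P.conj_mem n hn t₃ (Subgroup.mem_inf.2 ⟨h3, h3'⟩)
  refine ⟨b₁ * (n * t₃ * n⁻¹) * (b₁ * (n * t₂ * n⁻¹))⁻¹,
    mul_mem (mul_mem hb₁ c3) (inv_mem (mul_mem hb₁ c2)), u₂⁻¹ * u₃, mul_mem (inv_mem hu₂) hu₃, ?_⟩
  have e : b₁ * n * (t₂ * u₂) * b = b₁ * n * (t₂ * u₂ * b) := by group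
  rw [e, e3]
  group

theorem U_ne_bot (hS : Split P p U) (hne : P.S.Nonempty) : U ≠ ⊥ := by
  obtain ⟨s, hs⟩ := hne
  obtain ⟨V, hV⟩ := hS.node s hs
  obtain ⟨u, hu, huV⟩ := hV.ne
  intro h
  rw [h, Subgroup.mem_bot] at hu
  exact huV (hu ▸ one_mem V)

/-- `RO` gives a proper subgroup containing `B` -/
theorem exists_par [Finite G] [IsSimpleGroup G] (hS : Split P 2 U) (hne : P.S.Nonempty) {R : Subgroup G}
    (hR : RO G R) (h : R ≠ ⊤) : ∃ Q : Subgroup G, P.B ≤ Q ∧ Q ≠ ⊤ ∧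
      ∀ K : Subgroup G, P.B ≤ K → Odd (Nat.card (MulAction.orbitRel.Quotient K (G ⧸ Q))) := by
  obtain ⟨g, hg⟩ := Cov.two_group hR.odd_index hS.isP
  set R' := R.comap (MulAut.conj g).toMonoidHom with hR'def
  have hR' : RO G R' := hR.comap (MulAut.conj g)
  have hU : U ≤ R' := fun u hu => hg u hu
  have hB : ∀ K : Subgroup G, P.B ≤ K → ∀ y : G, ∀ b ∈ P.B, ∃ k ∈ K, ∃ r ∈ R', y * b = k * y * r := by
    intro K hK y b hb
    obtain ⟨c, hc, u, hu, h1⟩ := exists_mul_eq hS y hb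
    exact ⟨c, hK hc, u, hU hu, h1⟩
  refine ⟨R' ⊔ P.B, le_sup_right, fun htop => h ?_, fun K hK => ?_⟩
  · -- `G = B R'`
    have hc1 := card_orb_sup (hB P.B le_rfl)
    rw [htop] at hc1
    have hsub : Subsingleton (MulAction.orbitRel.Quotient P.B (G ⧸ (⊤ : Subgroup G))) := by
      refine ⟨fun a b => ?_⟩
      obtain ⟨x, rfl⟩ := orb_surjective _ _ a
      obtain ⟨y, rfl⟩ := orb_surjective _ _ b
      rw [orb_eq_iff]
      exact ⟨1, one_mem _, y⁻¹ * x, Subgroup.mem_top _, by group⟩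
    have hle : Nat.card (MulAction.orbitRel.Quotient P.B (G ⧸ R')) ≤ 1 := by
      rw [hc1]
      exact Finite.card_le_one_iff_subsingleton.2 hsub
    have hsub' := Finite.card_le_one_iff_subsingleton.1 hle
    have hBR : ∀ x : G, ∃ b ∈ P.B, ∃ r ∈ R', x = b * r := by
      intro x
      have h1 : orb P.B R' x = orb P.B R' 1 := Subsingleton.elim _ _
      obtain ⟨k, hk, r, hr, h2⟩ := orb_eq_iff.1 h1
      exact ⟨k, hk, r, hr, by rw [h2]; group⟩
    have hcon : ∀ x : G, ∀ u ∈ U, x * u * x⁻¹ ∈ R' := by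
      intro x u hu
      obtain ⟨b, hb, r, hr, h2⟩ := hBR x⁻¹
      have h3 : x = r⁻¹ * b⁻¹ := by rw [← mul_inv_rev, ← h2, inv_inv]
      have h4 := hS.norm b⁻¹ (inv_mem hb) u hu
      rw [inv_inv] at h4
      have h5 : x * u * x⁻¹ = r⁻¹ * (b⁻¹ * u * b) * r := by rw [h3]; group
      rw [h5]
      exact mul_mem (mul_mem (inv_mem hr) (hU h4)) hr
    have hnc : Subgroup.normalClosure (U : Set G) ≤ R' := by
      rw [Subgroup.normalClosure, Subgroup.closure_le]
      intro y hy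
      obtain ⟨u, hu, hy⟩ := Group.mem_conjugatesOfSet_iff.1 hy
      obtain ⟨x, rfl⟩ := isConj_iff.1 hy
      exact hcon x u hu
    have hnt : Subgroup.normalClosure (U : Set G) = ⊤ := by
      rcases (Subgroup.normalClosure_normal (s := (U : Set G))).eq_bot_or_eq_top with h1 | h1
      · exact absurd (le_bot_iff.1 (h1 ▸ Subgroup.le_normalClosure)) (U_ne_bot hS hne)
      · exact h1
    rw [hnt] at hnc
    rw [eq_top_iff]
    intro x _
    have h1 : g⁻¹ * x * g ∈ R' := hnc (Subgroup.mem_top _)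
    have h2 : g * (g⁻¹ * x * g) * g⁻¹ ∈ R := h1
    have h3 : g * (g⁻¹ * x * g) * g⁻¹ = x := by group
    rwa [h3] at h2
  · rw [← card_orb_sup (hB K hK)]
    exact hR'.odd_orb K

end par

/-! ### counting in the Weyl group -/

section count

variable {G : Type*} [Group G] (P : Cfsg.BNPair G) [hN : ((P.B ⊓ P.N).subgroupOf P.N).Normal] {I : Type*}
  {M : CoxeterMatrix I} {e : I ≃ P.S} (cs : CoxeterSystem M (WP P))

omit hN in
theorem wt_surjective : Function.Surjective (wt P) := by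
  intro w
  obtain ⟨n, rfl⟩ := QuotientGroup.mk_surjective w
  exact ⟨n, wt_of_mem P (self_mem_C (n : G))⟩

theorem wt_inv (g : G) : wt P g⁻¹ = (wt P g)⁻¹ := by
  obtain ⟨n, hn⟩ := exists_mem_C P g
  rw [wt_of_mem P hn, wt_of_mem P (n := n⁻¹) (inv_mem_C hn)]
  rfl

variable {P}

/-- the representatives with index in `J` -/
def rs (e : I ≃ P.S) (J : Set I) : Set G := (fun i => (e i : G)) '' J

omit hN in
theorem rs_subset (J : Set I) : rs e J ⊆ P.S := by
  rintro _ ⟨i, -, rfl⟩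
  exact (e i).2

variable (hcs : ∀ i, cs.simple i = QuotientGroup.mk (⟨(e i : G), P.subset (e i).2⟩ : P.N))

include hcs

theorem wt_simple_mul (i : I) (x : G) : wt P ((e i : G) * x) = cs.simple i * wt P x ∨
    wt P ((e i : G) * x) = wt P x := by
  obtain ⟨n, hn⟩ := exists_mem_C P x
  obtain ⟨b, hb, b', hb', rfl⟩ := mem_C.1 hn
  have h1 : (e i : G) * (b * n * b') = ((e i : G) * b * n) * b' := by group
  rw [h1, wt_mul_right P _ hb', wt_of_mem P hn, hcs i]
  rcases axiom_left (P := P) (e i).2 n.2 hb with h2 | h2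
  · left
    rw [wt_of_mem P (n := ⟨(e i : G), P.subset (e i).2⟩ * n) h2]
    rfl
  · right
    rw [wt_of_mem P (n := n) h2]

theorem wt_par_mul {J : Set I} {k : G} (hk : k ∈ P.parabolic (rs e J)) :
    ∀ x : G, ∃ w ∈ WJ cs J, wt P (k * x) = w * wt P x := by
  have hle : P.parabolic (rs e J) = Subgroup.closure ((P.B : Set G) ∪ rs e J) := by
    rw [Subgroup.closure_union, Subgroup.closure_eq]; rfl
  rw [hle] at hk
  induction hk using Subgroup.closure_induction with
  | mem y hy =>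
    intro x
    rcases hy with hy | ⟨i, hi, rfl⟩
    · exact ⟨1, one_mem _, by rw [wt_mul_left P x hy, one_mul]⟩
    · rcases wt_simple_mul cs hcs i x with h1 | h1
      · exact ⟨cs.simple i, Subgroup.subset_closure ⟨i, hi, rfl⟩, h1⟩
      · exact ⟨1, one_mem _, by rw [one_mul]; exact h1⟩
  | one => intro x; exact ⟨1, one_mem _, by rw [one_mul, one_mul]⟩
  | mul a b _ _ iha ihb =>
    intro x
    obtain ⟨w, hw, h1⟩ := iha (b * x)
    obtain ⟨w', hw', h2⟩ := ihb x
    exact ⟨w * w', mul_mem hw hw', by rw [mul_assoc, h1, h2, mul_assoc]⟩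
  | inv a _ ih =>
    intro x
    obtain ⟨w, hw, h1⟩ := ih (a⁻¹ * x)
    rw [mul_inv_cancel_left] at h1
    exact ⟨w⁻¹, inv_mem hw, by rw [h1, inv_mul_cancel_left]⟩

theorem rep_mem_par {J : Set I} {w : WP P} (hw : w ∈ WJ cs J) :
    ∃ n : P.N, (QuotientGroup.mk n : WP P) = w ∧ (n : G) ∈ P.parabolic (rs e J) := by
  unfold WJ at hw
  induction hw using Subgroup.closure_induction with
  | mem y hy =>
    obtain ⟨i, hi, rfl⟩ := hy
    exact ⟨⟨(e i : G), P.subset (e i).2⟩, (hcs i).symm,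
      (le_sup_right : Subgroup.closure (rs e J) ≤ P.parabolic (rs e J)) (Subgroup.subset_closure ⟨i, hi, rfl⟩)⟩
  | one => exact ⟨1, rfl, one_mem _⟩
  | mul a b _ _ iha ihb =>
    obtain ⟨n, h1, h2⟩ := iha
    obtain ⟨m, h3, h4⟩ := ihb
    exact ⟨n * m, by rw [QuotientGroup.mk_mul, h1, h3], mul_mem h2 h4⟩
  | inv a _ ih =>
    obtain ⟨n, h1, h2⟩ := ih
    exact ⟨n⁻¹, by rw [QuotientGroup.mk_inv, h1], inv_mem h2⟩

/-- the double cosets of parabolic subgroups -/
theorem card_orb_par (J K : Set I) :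
    Nat.card (MulAction.orbitRel.Quotient (P.parabolic (rs e K)) (G ⧸ P.parabolic (rs e J))) =
      Nat.card (MulAction.orbitRel.Quotient (WJ cs K) (WP P ⧸ WJ cs J)) := by
  refine card_orb_map (wt P) (wt_surjective P) fun x y => ?_
  constructor
  · rintro ⟨k, hk, q, hq, rfl⟩
    obtain ⟨a, ha, h1⟩ := wt_par_mul cs hcs hk (y * q)
    obtain ⟨b, hb, h2⟩ := wt_par_mul cs hcs (inv_mem hq) y⁻¹
    have h3 : wt P (y * q) = wt P y * b⁻¹ := by
      have h4 := wt_inv P (y * q)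
      rw [mul_inv_rev, h2, wt_inv] at h4
      rw [← inv_inv (wt P (y * q)), ← h4, mul_inv_rev, inv_inv]
    exact ⟨a, ha, b⁻¹, inv_mem hb, by rw [mul_assoc, h1, h3, mul_assoc]⟩
  · rintro ⟨a, ha, b, hb, h1⟩
    obtain ⟨na, rfl, ha'⟩ := rep_mem_par cs hcs ha
    obtain ⟨nb, rfl, hb'⟩ := rep_mem_par cs hcs hb
    obtain ⟨ny, hny⟩ := exists_mem_C P y
    rw [wt_of_mem P hny] at h1
    have hx : x ∈ C P ((na * ny * nb : P.N) : G) := mem_C_of_wt P h1
    obtain ⟨b₁, hb₁, b₂, hb₂, rfl⟩ := mem_C.1 hny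
    obtain ⟨c₁, hc₁, c₂, hc₂, rfl⟩ := mem_C.1 hx
    have hB1 : P.B ≤ P.parabolic (rs e K) := le_sup_left
    have hB2 : P.B ≤ P.parabolic (rs e J) := le_sup_left
    refine ⟨c₁ * na * b₁⁻¹, mul_mem (mul_mem (hB1 hc₁) ha') (inv_mem (hB1 hb₁)),
      b₂⁻¹ * nb * c₂, mul_mem (mul_mem (inv_mem (hB2 hb₂)) hb') (hB2 hc₂), ?_⟩
    push_cast
    group

end count

/-! ### the Coxeter group -/

section cox

variable {I : Type*} (M : CoxeterMatrix I)

/-- the number of `(W_K, W_J)`-double cosets in the Coxeter group of `M` -/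
noncomputable def Par (J K : Set I) : ℕ :=
  Nat.card (MulAction.orbitRel.Quotient (WJ M.toCoxeterSystem K) (M.Group ⧸ WJ M.toCoxeterSystem J))

/-- for each proper `J` there is `K` with an even number of double cosets -/
def EvenPar : Prop := ∀ J : Set I, J ≠ Set.univ → ∃ K : Set I, Even (Par M J K)

variable {M} {W : Type*} [Group W] (cs : CoxeterSystem M W)

theorem mem_WJ_mulEquiv (J : Set I) (w : W) : w ∈ WJ cs J ↔ cs.mulEquiv w ∈ WJ M.toCoxeterSystem J := by
  have h1 : (WJ cs J).map cs.mulEquiv.toMonoidHom = WJ M.toCoxeterSystem J := by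
    unfold WJ
    rw [MonoidHom.map_closure, ← Set.image_comp]
    congr 1
    refine Set.image_congr fun i _ => ?_
    exact cs.mulEquiv.apply_symm_apply _
  rw [← h1]
  exact (Subgroup.mem_map_iff_mem cs.mulEquiv.injective).symm

theorem par_eq (J K : Set I) :
    Nat.card (MulAction.orbitRel.Quotient (WJ cs K) (W ⧸ WJ cs J)) = Par M J K := by
  unfold Par
  refine card_orb_map cs.mulEquiv cs.mulEquiv.surjective fun x y => ?_
  constructor
  · rintro ⟨k, hk, q, hq, rfl⟩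
    exact ⟨_, (mem_WJ_mulEquiv cs K k).1 hk, _, (mem_WJ_mulEquiv cs J q).1 hq, by rw [map_mul, map_mul]⟩
  · rintro ⟨k, hk, q, hq, h1⟩
    refine ⟨cs.mulEquiv.symm k, (mem_WJ_mulEquiv cs K _).2 (by rwa [MulEquiv.apply_symm_apply]),
      cs.mulEquiv.symm q, (mem_WJ_mulEquiv cs J _).2 (by rwa [MulEquiv.apply_symm_apply]), ?_⟩
    apply cs.mulEquiv.injective
    rw [map_mul, map_mul, MulEquiv.apply_symm_apply, MulEquiv.apply_symm_apply, h1]

theorem par_empty (J : Set I) : Par M J ∅ = (WJ M.toCoxeterSystem J).index := by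
  unfold Par
  have h1 : WJ M.toCoxeterSystem (∅ : Set I) = ⊥ := by
    unfold WJ
    rw [Set.image_empty, Subgroup.closure_empty]
  have h2 : Function.Bijective (fun ω : M.Group ⧸ WJ M.toCoxeterSystem J =>
      (Quotient.mk'' ω : MulAction.orbitRel.Quotient (WJ M.toCoxeterSystem (∅ : Set I))
        (M.Group ⧸ WJ M.toCoxeterSystem J))) := by
    constructor
    · intro a b hab
      have h3 : (Quotient.mk'' a : MulAction.orbitRel.Quotient (WJ M.toCoxeterSystem (∅ : Set I))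
        (M.Group ⧸ WJ M.toCoxeterSystem J)) = Quotient.mk'' b := hab
      rw [Quotient.eq'', MulAction.orbitRel_apply] at h3
      obtain ⟨⟨k, hk⟩, h4⟩ := h3
      rw [h1, Subgroup.mem_bot] at hk
      subst hk
      rw [← h4]
      exact one_smul M.Group b
    · exact Quotient.mk''_surjective
  exact (Nat.card_congr (Equiv.ofBijective _ h2)).symm

/-- a central involution in no proper parabolic subgroup -/
theorem evenPar_of_central [Finite M.Group] (z : M.Group) (hz : z * z = 1) (hc : ∀ w : M.Group, z * w = w * z)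
    (hJ : ∀ J : Set I, J ≠ Set.univ → z ∉ WJ M.toCoxeterSystem J) : EvenPar M := by
  intro J hJ1
  refine ⟨∅, ?_⟩
  rw [par_empty]
  have hzJ := hJ J hJ1
  -- `z` acts without fixed points
  have h1 : (Nat.card (M.Group ⧸ WJ M.toCoxeterSystem J)) % 2 = 0 := by
    have : Finite (M.Group ⧸ WJ M.toCoxeterSystem J) := inferInstance
    have hp : IsPGroup 2 (Subgroup.zpowers z) := by
      rintro ⟨x, hx⟩
      obtain ⟨k, rfl⟩ := Subgroup.mem_zpowers_iff.1 hx
      refine ⟨1, Subtype.ext ?_⟩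
      change (z ^ k) ^ 2 ^ 1 = 1
      rw [pow_one, ← zpow_natCast, ← zpow_mul, mul_comm, zpow_mul, zpow_natCast, sq, hz, one_zpow]
    have : Fact (Nat.Prime 2) := ⟨Nat.prime_two⟩
    have h2 := hp.card_modEq_card_fixedPoints (M.Group ⧸ WJ M.toCoxeterSystem J)
    have h3 : Nat.card (MulAction.fixedPoints (Subgroup.zpowers z) (M.Group ⧸ WJ M.toCoxeterSystem J)) = 0 := by
      rw [Nat.card_eq_zero]
      left
      refine ⟨?_⟩
      rintro ⟨ω, hω⟩
      obtain ⟨w, rfl⟩ := QuotientGroup.mk_surjective ω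
      have h3 : (QuotientGroup.mk (z * w) : M.Group ⧸ WJ M.toCoxeterSystem J) = QuotientGroup.mk w :=
        hω ⟨z, Subgroup.mem_zpowers z⟩
      rw [QuotientGroup.eq, hc w, mul_inv_rev, inv_mul_cancel_right] at h3
      exact hzJ (by rw [← inv_inv z]; exact inv_mem h3)
    rw [h3] at h2
    exact h2
  exact Nat.even_iff.2 h1

end cox

/-! ### the main theorem -/

/-- **Characteristic two.** -/
theorem row_of_type {G : Type*} [Group G] [Finite G] [IsSimpleGroup G] {I : Type*} [Nonempty I] {M : CoxeterMatrix I}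
    {P : Cfsg.BNPair G} {U : Subgroup G} {e : I ≃ P.S} (hS : Split P 2 U) (hM : BNType P M e) (hE : EvenPar M) :
    Row G := by
  intro R hR
  by_contra hne
  obtain ⟨i0⟩ := ‹Nonempty I›
  obtain ⟨Q, hBQ, hQ, hodd⟩ := exists_par hS ⟨e i0, (e i0).2⟩ hR hne
  obtain ⟨hN, cs, hcs⟩ := hM
  set J : Set I := {i | (e i : G) ∈ Q} with hJ
  have hQJ : Q = P.parabolic (rs e J) := by
    have h1 := eq_parabolic (P := P) hBQ
    have h2 : P.S ∩ Q = rs e J := by
      ext x
      constructor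
      · rintro ⟨hx, hxQ⟩
        refine ⟨e.symm ⟨x, hx⟩, ?_, ?_⟩
        · change (e (e.symm ⟨x, hx⟩) : G) ∈ Q
          rw [Equiv.apply_symm_apply]
          exact hxQ
        · change (e (e.symm ⟨x, hx⟩) : G) = x
          rw [Equiv.apply_symm_apply]
      · rintro ⟨i, hi, rfl⟩
        exact ⟨(e i).2, hi⟩
    rwa [h2] at h1
  have hJ1 : J ≠ Set.univ := by
    intro h1
    apply hQ
    rw [eq_top_iff, ← parabolic_S_eq_top (P := P)]
    refine sup_le hBQ ((Subgroup.closure_le _).2 fun x hx => ?_)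
    have h2 : e.symm ⟨x, hx⟩ ∈ J := by rw [h1]; trivial
    have h3 : (e (e.symm ⟨x, hx⟩) : G) ∈ Q := h2
    rwa [Equiv.apply_symm_apply] at h3
  obtain ⟨K, hK⟩ := hE J hJ1
  have h1 := hodd (P.parabolic (rs e K)) le_sup_left
  rw [hQJ, card_orb_par cs hcs, par_eq cs] at h1
  exact Nat.not_even_iff_odd.2 h1 hK

end Cfsg.Agent.H551.OddTwo
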