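import Cfsg.Agent.H551.OddTwoSz
import Cfsg.Agent.H551.OddTwoD
import Cfsg.Agent.H976.OddM.ParA
import Cfsg.Agent.H976.OddM.ParE6
import Cfsg.Agent.H453.OddM.Asm

/-!
# S4785, characteristic two: the rows by names (helper551)

* `row_char2` : `Row G` for all groups of Lie type in characteristic two;
* `row_psl2`, ..., `row_td42`, `row_sz'`, `row_tf4` : the rows `RowN`.
-/

set_option autoImplicit false

namespace Cfsg.Agent.H551.OddTwo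

open Cfsg Cfsg.Agent.H453.OddM Cfsg.Agent.OrdDiv Cfsg.Agent.H436

universe u

/-- **Characteristic two.** -/
theorem row_char2 {G : Type u} [Group G] [Finite G] [IsSimpleGroup G] (hG : IsLieTypeChar 2 G) : Row G :=
  row_of_lie (fun n _ _ => Cfsg.Agent.H976.OddM.ParA.evenPar_A n)
    (fun _ h1 _ _ => evenPar_TypeD h1) Cfsg.Agent.H976.OddM.ParE6.evenPar_E6 hG

theorem charP_of_card {F : Type} [Field F] [Fintype F] {q k : ℕ} (hF : Fintype.card F = q ^ k) (hk : k ≠ 0)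
    (h2 : 2 ∣ q) : CharP F 2 := by
  obtain ⟨p, hp⟩ := CharP.exists F
  have hpp : p.Prime := CharP.char_is_prime F p
  have := Fact.mk hpp
  obtain ⟨n, -, hn⟩ := FiniteField.card F p
  have h3 : 2 ∣ p ^ (n : ℕ) := by
    rw [← hn, hF]
    exact dvd_pow h2 hk
  have h4 : 2 ∣ p := Nat.Prime.dvd_of_dvd_pow Nat.prime_two h3
  have h5 : p = 2 := ((Nat.prime_dvd_prime_iff_eq Nat.prime_two hpp).1 h4).symm
  rwa [h5] at hp

theorem row_psl2 (n q : ℕ) (h2 : 2 ∣ q) : RowN.{u} (.psl n q) := by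
  intro T _ _ _ h
  obtain ⟨F, i1, i2, hF, ⟨e⟩⟩ := h.real
  obtain ⟨h3, h4, -⟩ := h.cond
  have := charP_of_card (q := q) (k := 1) (by rw [hF, pow_one]) one_ne_zero h2
  exact (row_char2 (Or.inl ⟨F, i1, i2, this, n, h3, by rwa [hF], ⟨e⟩⟩)).row8

theorem row_psp2 (n q : ℕ) (h2 : 2 ∣ q) : RowN.{u} (.psp n q) := by
  intro T _ _ _ h
  obtain ⟨F, i1, i2, hF, ⟨e⟩⟩ := h.real
  obtain ⟨h3, h4, -⟩ := h.cond
  have := charP_of_card (q := q) (k := 1) (by rw [hF, pow_one]) one_ne_zero h2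
  exact (row_char2 (Or.inr (Or.inl ⟨F, i1, i2, this, n, h3, by rwa [hF], ⟨e⟩⟩))).row8

theorem row_psu2 (n q : ℕ) (h2 : 2 ∣ q) : RowN.{u} (.psu n q) := by
  intro T _ _ _ h
  obtain ⟨F, i1, i2, hF, ⟨e⟩⟩ := h.real
  obtain ⟨h3, h4, -⟩ := h.cond
  have := charP_of_card (q := q) (k := 2) hF two_ne_zero h2
  exact (row_char2 (Or.inr (Or.inr (Or.inl ⟨F, i1, i2, this, n, q, hF, h3, h4, ⟨e⟩⟩)))).row8

theorem row_oplus2 (n q : ℕ) (h2 : 2 ∣ q) : RowN.{u} (.oplus n q) := by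
  intro T _ _ _ h
  obtain ⟨F, i1, i2, hF, ⟨e⟩⟩ := h.real
  obtain ⟨h3, -⟩ := h.cond
  have := charP_of_card (q := q) (k := 1) (by rw [hF, pow_one]) one_ne_zero h2
  exact (row_char2 (Or.inr (Or.inr (Or.inr (Or.inr (Or.inl ⟨F, i1, i2, this, n, h3, ⟨e⟩⟩)))))).row8

theorem row_ominus2 (n q : ℕ) (h2 : 2 ∣ q) : RowN.{u} (.ominus n q) := by
  intro T _ _ _ h
  obtain ⟨F, i1, i2, a, b, hF, hab, ⟨e⟩⟩ := h.real
  obtain ⟨h3, -⟩ := h.cond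
  have := charP_of_card (q := q) (k := 1) (by rw [hF, pow_one]) one_ne_zero h2
  exact (row_char2 (Or.inr (Or.inr (Or.inr (Or.inr (Or.inr (Or.inl
    ⟨F, i1, i2, this, n, a, b, h3, hab, ⟨e⟩⟩))))))).row8

theorem lie_of_exc {G : Type u} [Group G] (h : IsExceptionalChevChar 2 G) : IsLieTypeChar 2 G :=
  Or.inr (Or.inr (Or.inr (Or.inr (Or.inr (Or.inr (Or.inl h))))))

theorem lie_of_tw {G : Type u} [Group G] (h : IsTwistedE6D4Char 2 G) : IsLieTypeChar 2 G :=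
  Or.inr (Or.inr (Or.inr (Or.inr (Or.inr (Or.inr (Or.inr (Or.inl h)))))))

theorem row_g22 (q : ℕ) (h2 : 2 ∣ q) : RowN.{u} (.g2 q) := by
  intro T _ _ _ h
  obtain ⟨F, i1, i2, hF, ⟨e⟩⟩ := h.real
  obtain ⟨h3, -⟩ := h.cond
  have := charP_of_card (q := q) (k := 1) (by rw [hF, pow_one]) one_ne_zero h2
  exact (row_char2 (lie_of_exc ⟨F, i1, i2, this, Or.inl ⟨by rwa [hF], ⟨e⟩⟩⟩)).row8

theorem row_f42 (q : ℕ) (h2 : 2 ∣ q) : RowN.{u} (.f4 q) := by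
  intro T _ _ _ h
  obtain ⟨F, i1, i2, hF, ⟨e⟩⟩ := h.real
  have := charP_of_card (q := q) (k := 1) (by rw [hF, pow_one]) one_ne_zero h2
  exact (row_char2 (lie_of_exc ⟨F, i1, i2, this, Or.inr (Or.inl ⟨e⟩)⟩)).row8

theorem row_e62 (q : ℕ) (h2 : 2 ∣ q) : RowN.{u} (.e6 q) := by
  intro T _ _ _ h
  obtain ⟨F, i1, i2, hF, ⟨e⟩⟩ := h.real
  have := charP_of_card (q := q) (k := 1) (by rw [hF, pow_one]) one_ne_zero h2
  exact (row_char2 (lie_of_exc ⟨F, i1, i2, this, Or.inr (Or.inr (Or.inl ⟨e⟩))⟩)).row8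

theorem row_e72 (q : ℕ) (h2 : 2 ∣ q) : RowN.{u} (.e7 q) := by
  intro T _ _ _ h
  obtain ⟨F, i1, i2, hF, ⟨e⟩⟩ := h.real
  have := charP_of_card (q := q) (k := 1) (by rw [hF, pow_one]) one_ne_zero h2
  exact (row_char2 (lie_of_exc ⟨F, i1, i2, this, Or.inr (Or.inr (Or.inr (Or.inl ⟨e⟩)))⟩)).row8

theorem row_e82 (q : ℕ) (h2 : 2 ∣ q) : RowN.{u} (.e8 q) := by
  intro T _ _ _ h
  obtain ⟨F, i1, i2, hF, ⟨e⟩⟩ := h.real
  have := charP_of_card (q := q) (k := 1) (by rw [hF, pow_one]) one_ne_zero h2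
  exact (row_char2 (lie_of_exc ⟨F, i1, i2, this, Or.inr (Or.inr (Or.inr (Or.inr ⟨e⟩)))⟩)).row8

theorem row_te62 (q : ℕ) (h2 : 2 ∣ q) : RowN.{u} (.te6 q) := by
  intro T _ _ _ h
  obtain ⟨F, i1, i2, hF, ⟨e⟩⟩ := h.real
  have hq : IsPrimePow q := h.cond
  have := charP_of_card (q := q) (k := 2) hF two_ne_zero h2
  exact (row_char2 (lie_of_tw ⟨F, i1, i2, this, q, hq, Or.inl ⟨hF, ⟨e⟩⟩⟩)).row8

theorem row_td42 (q : ℕ) (h2 : 2 ∣ q) : RowN.{u} (.td4 q) := by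
  intro T _ _ _ h
  obtain ⟨F, i1, i2, hF, ⟨e⟩⟩ := h.real
  have hq : IsPrimePow q := h.cond
  have := charP_of_card (q := q) (k := 3) hF three_ne_zero h2
  exact (row_char2 (lie_of_tw ⟨F, i1, i2, this, q, hq, Or.inr ⟨hF, ⟨e⟩⟩⟩)).row8

theorem rowN_sz (q : ℕ) : RowN.{u} (.sz q) := by
  intro T _ _ _ h
  obtain ⟨F, i1, i2, m, hm, hF, hq, ⟨e⟩⟩ := h.real
  exact (row_sz ⟨F, i1, i2, m, hm, by rw [hF, hq], ⟨e⟩⟩).row8

theorem rowN_tf4 (q : ℕ) : RowN.{u} (.tf4 q) := by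
  intro T _ _ _ h
  obtain ⟨F, i1, i2, m, hm, hF, hq, ⟨e⟩⟩ := h.real
  exact (row_twF4 ⟨F, i1, i2, m, hm, by rw [hF, hq], ⟨e⟩⟩).row8

end Cfsg.Agent.H551.OddTwo
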