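import Cfsg.Agent.H453.OddM.UnA

/-!
# TEAM ODDM (S4785), part E: unitary transvections, full root groups and a nondegenerate triangle of centres

If every centre has its full root group in `H` and three centres span a nondegenerate 3-space, then all unitary transvections are
in `H` (`full`).
-/

set_option autoImplicit false
set_option linter.unusedSectionVars false

namespace Cfsg.Agent.H551.OddUnE

open Cfsg Module Cfsg.Agent.LieClassical.HermBasic Cfsg.Agent.ClassicalGeometry.UnitTransv Cfsg.Agent.H453.OddM.Un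
open scoped Matrix MatrixGroups

variable {F : Type*} [Field F] [Fintype F] {n q : ℕ}

/-- elementary moves on pairs of scalars -/
theorem pair_moves (hF : Fintype.card F = q ^ 2) {P : F → F → Prop}
    (h1 : ∀ α β k, k ^ q = k → P α β → P (α + k * β) β)
    (h2 : ∀ α β k, k ^ q = k → P α β → P α (β + k * α))
    {α β α' β' : F} (hD : α * β ^ q - β * α ^ q ≠ 0)
    (hD' : α' * β' ^ q - β' * α' ^ q = α * β ^ q - β * α ^ q) (h : P α β) : P α' β' := by
  have key : ∀ α β p r s t : F, p ^ q = p → s ^ q = s → t ^ q = t → p * t - r * s = 1 → s ≠ 0 → P α β →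
     P (p * α + s * β) (r * α + t * β) := by
    intro α β p r s t hp hs ht hdet hs0 h
    have e1 := h2 α β ((p - 1) / s) (by rw [div_pow, sub_pow_q hF, one_pow, hp, hs]) h
    have e2 := h1 _ _ s hs e1
    have e3 := h2 _ _ ((t - 1) / s) (by rw [div_pow, sub_pow_q hF, one_pow, ht, hs]) e2
    have ha : α + s * (β + (p - 1) / s * α) = p * α + s * β := by
      field_simp
      ring
    have hb : β + (p - 1) / s * α + (t - 1) / s * (p * α + s * β) = r * α + t * β := by
      field_simp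
      linear_combination α * hdet
    rw [ha] at e3
    rwa [hb] at e3
  have hDq : (α * β ^ q - β * α ^ q) ^ q = -(α * β ^ q - β * α ^ q) := by
    rw [sub_pow_q hF, mul_pow, mul_pow, pow_q_pow_q hF, pow_q_pow_q hF]
    ring
  have hrat : ∀ x y : F, ((x * y ^ q - y * x ^ q) / (α * β ^ q - β * α ^ q)) ^ q =
      (x * y ^ q - y * x ^ q) / (α * β ^ q - β * α ^ q) := by
    intro x y
    rw [div_pow, hDq, sub_pow_q hF, mul_pow, mul_pow, pow_q_pow_q hF, pow_q_pow_q hF, div_neg, ← neg_div]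
    congr 1
    ring
  obtain ⟨D, hDe⟩ : ∃ D, D = α * β ^ q - β * α ^ q := ⟨_, rfl⟩
  rw [← hDe] at hD hrat
  obtain ⟨p, hp⟩ : ∃ p, p = (α' * β ^ q - β * α' ^ q) / D := ⟨_, rfl⟩
  obtain ⟨s, hs⟩ : ∃ s, s = (α * α' ^ q - α' * α ^ q) / D := ⟨_, rfl⟩
  obtain ⟨r, hr⟩ : ∃ r, r = (β' * β ^ q - β * β' ^ q) / D := ⟨_, rfl⟩
  obtain ⟨t, ht⟩ : ∃ t, t = (α * β' ^ q - β' * α ^ q) / D := ⟨_, rfl⟩
  have hpq : p ^ q = p := by rw [hp]; exact hrat _ _
  have hsq : s ^ q = s := by rw [hs]; exact hrat _ _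
  have hrq : r ^ q = r := by rw [hr]; exact hrat _ _
  have htq : t ^ q = t := by rw [ht]; exact hrat _ _
  rw [eq_div_iff hD] at hp hs hr ht
  have e1 : p * α + s * β = α' := by
    apply mul_right_cancel₀ hD
    linear_combination α * hp + β * hs - α' * hDe
  have e2 : r * α + t * β = β' := by
    apply mul_right_cancel₀ hD
    linear_combination α * hr + β * ht - β' * hDe
  have hdet : p * t - r * s = 1 := by
    apply mul_right_cancel₀ (mul_ne_zero hD hD)
    have e3 : (p * t - r * s) * (D * D) = (p * D) * (t * D) - (r * D) * (s * D) := by ring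
    rw [e3, hp, hs, hr, ht, hDe]
    linear_combination (α * β ^ q - β * α ^ q) * hD'
  by_cases hs0 : s = 0
  · have h0 := h1 α β 1 (one_pow _) h
    have hp0 : p ≠ 0 := by
      rintro rfl
      rw [hs0] at hdet
      simp at hdet
    have h3 := key (α + 1 * β) β p r (-p) (t - r) hpq (by rw [neg_pow_q hF, hpq]) (by rw [sub_pow_q hF, htq, hrq])
      (by rw [hs0] at hdet; linear_combination hdet) (neg_ne_zero.2 hp0) h0
    have e3 : p * (α + 1 * β) + -p * β = α' := by
      rw [← e1, hs0]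
      ring
    have e4 : r * (α + 1 * β) + (t - r) * β = β' := by
      rw [← e2]
      ring
    rwa [e3, e4] at h3
  · have h3 := key α β p r s t hpq hsq htq hdet hs0 h
    rwa [e1, e2] at h3

/-- the abstract situation: the set of centres -/
structure Ctx (q : ℕ) (Δ : (Fin n → F) → Prop) : Prop where
  card : Fintype.card F = q ^ 2
  two : (2 : F) ≠ 0
  dim : 3 ≤ n
  ne : ∀ {x}, Δ x → x ≠ 0
  iso : ∀ {x}, Δ x → ho q x x = 0
  smul : ∀ {x} {s : F}, Δ x → s ≠ 0 → Δ (s • x)
  mv : ∀ {z y} {c : F}, Δ z → Δ y → c + c ^ q = 0 → Δ (z + (c * ho q z y) • y)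
  irr : ∀ W : Submodule F (Fin n → F), (∀ b, Δ b → b ∈ W ∨ ∀ v ∈ W, ho q v b = 0) → W = ⊥ ∨ W = ⊤

theorem ctx_cen {H : Subgroup (GL (Fin n) F)} (D : Dat q H)
    (hall : ∀ x c d, c ≠ 0 → TM q H x c → d + d ^ q = 0 → TM q H x d) : Ctx q (Cen q H) where
  card := D.card
  two := D.two
  dim := D.dim
  ne := fun h => h.1
  iso := fun h => h.iso
  smul := fun h hs => h.smul D.card hs
  mv := by
    intro z y c hz hy hc
    obtain ⟨hy0, d, hd, hyd⟩ := hy
    have h1 := hall y d c hd hyd hc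
    have h2 := hz.conj D.le h1.mem
    rwa [ap_t h1.iso] at h2
  irr := by
    intro W hW
    apply D.irr W
    intro b c hb v hv
    rw [ap_t hb.iso]
    by_cases hc : c = 0
    · rw [hc, zero_mul, zero_smul, add_zero]
      exact hv
    by_cases hb0 : b = 0
    · rw [hb0, smul_zero, add_zero]
      exact hv
    rcases hW b ⟨hb0, c, hc, hb⟩ with h | h
    · exact W.add_mem hv (W.smul_mem _ h)
    · rw [h v hv, mul_zero, zero_smul, add_zero]
      exact hv

theorem hal (u u' v : Fin n → F) : ho q (u + u') v = ho q u v + ho q u' v := herm_add_left _ _ _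

theorem hsl (c : F) (u v : Fin n → F) : ho q (c • u) v = c * ho q u v := herm_smul_left _ _ _

theorem hbl (u u' v : Fin n → F) : ho q (u - u') v = ho q u v - ho q u' v := herm_sub_left _ _ _

theorem har (hF : Fintype.card F = q ^ 2) (u v v' : Fin n → F) : ho q u (v + v') = ho q u v + ho q u v' :=
  herm_add_right hF _ _ _

theorem hsr (c : F) (u v : Fin n → F) : ho q u (c • v) = c ^ q * ho q u v := herm_smul_right _ _ _

theorem hbr (hF : Fintype.card F = q ^ 2) (u v v' : Fin n → F) : ho q u (v - v') = ho q u v - ho q u v' :=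
  herm_sub_right hF _ _ _

/-- the norm of `v + s w` -/
theorem ho_norm_add (hF : Fintype.card F = q ^ 2) (v w : Fin n → F) (s : F) :
    ho q (v + s • w) (v + s • w) = ho q v v + s ^ q * ho q v w + s * ho q w v + s * s ^ q * ho q w w := by
  rw [hal, har hF, har hF, hsl, hsr, hsl, hsr]
  ring

/-- an element `≠ 0` of trace zero -/
theorem exists_skew (hF : Fintype.card F = q ^ 2) : ∃ i : F, i ≠ 0 ∧ i ^ q = -i := by
  obtain ⟨i, hi0, hi⟩ := exists_trace_zero_ne hF
  exact ⟨i, hi0, by linear_combination hi⟩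

section

variable {Δ : (Fin n → F) → Prop}

theorem Ctx.line (C : Ctx q Δ) {x y : Fin n → F} {s : F} (hx : Δ x) (hy : Δ y) (hxy : ho q x y ≠ 0)
    (h : ho q (x + s • y) (x + s • y) = 0) : Δ (x + s • y) := by
  have hyx : ho q y x = ho q x y ^ q := ho_swap C.card x y
  have hyx0 : ho q y x ≠ 0 := ho_ne_swap C.card hxy
  rw [ho_norm_add C.card, C.iso hx, C.iso hy] at h
  have hc : s / ho q x y + (s / ho q x y) ^ q = 0 := by
    rw [div_pow, ← hyx, div_add_div _ _ hxy hyx0, div_eq_zero_iff]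
    left
    linear_combination h
  have h3 := C.mv hx hy hc
  rwa [div_mul_cancel₀ _ hxy] at h3

theorem Ctx.plane0 (C : Ctx q Δ) {x y u : Fin n → F} (hx : Δ x) (hy : Δ y) (hxy : ho q x y ≠ 0)
    (hsk : ho q x y ^ q = -ho q x y) (hux : ho q u x = 0) (huy : ho q u y = 0) {α β α' β' : F}
    (hn0 : ho q (α • x + β • y) (α • x + β • y) ≠ 0)
    (hn : ho q (α' • x + β' • y) (α' • x + β' • y) = ho q (α • x + β • y) (α • x + β • y))
    (h : Δ (α • x + β • y + u)) : Δ (α' • x + β' • y + u) := by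
  have hyx : ho q y x = -ho q x y := by rw [ho_swap C.card x y, hsk]
  have hx0 := C.iso hx
  have hy0 := C.iso hy
  have hnorm : ∀ α β : F, ho q (α • x + β • y) (α • x + β • y) = (α * β ^ q - β * α ^ q) * ho q x y := by
    intro α β
    rw [hal, har C.card, har C.card, hsl, hsl, hsl, hsl, hsr, hsr, hsr, hsr, hx0, hy0, hyx]
    ring
  rw [hnorm] at hn0 hn
  rw [hnorm] at hn
  have hD := left_ne_zero_of_mul hn0
  have hD' := mul_right_cancel₀ hxy hn
  refine pair_moves C.card (P := fun α β => Δ (α • x + β • y + u)) ?_ ?_ hD hD' h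
  · intro α β k hk h
    have h1 : ho q (α • x + β • y + u) x = -β * ho q x y := by
      rw [hal, hal, hsl, hsl, hx0, hux, hyx]
      ring
    have h2 := C.mv h hx (c := -k / ho q x y) (by
      rw [div_pow, neg_pow_q C.card, hk, hsk]
      field_simp
      ring)
    rw [h1] at h2
    have h3 : (α + k * β) • x + β • y + u = α • x + β • y + u + (-k / ho q x y * (-β * ho q x y)) • x := by
      rw [show -k / ho q x y * (-β * ho q x y) = k * β by field_simp, add_smul]
      abel
    rw [h3]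
    exact h2
  · intro α β k hk h
    have h1 : ho q (α • x + β • y + u) y = α * ho q x y := by
      rw [hal, hal, hsl, hsl, hy0, huy]
      ring
    have h2 := C.mv h hy (c := k / ho q x y) (by
      rw [div_pow, hk, hsk]
      field_simp
      ring)
    rw [h1] at h2
    have h3 : α • x + (β + k * α) • y + u = α • x + β • y + u + (k / ho q x y * (α * ho q x y)) • y := by
      rw [show k / ho q x y * (α * ho q x y) = k * α by field_simp, add_smul]
      abel
    rw [h3]
    exact h2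

theorem Ctx.plane (C : Ctx q Δ) {x y u : Fin n → F} (hx : Δ x) (hy : Δ y) (hxy : ho q x y ≠ 0)
    (hux : ho q u x = 0) (huy : ho q u y = 0) {α β α' β' : F}
    (hn0 : ho q (α • x + β • y) (α • x + β • y) ≠ 0)
    (hn : ho q (α' • x + β' • y) (α' • x + β' • y) = ho q (α • x + β • y) (α • x + β • y))
    (h : Δ (α • x + β • y + u)) : Δ (α' • x + β' • y + u) := by
  obtain ⟨i, hi0, hi⟩ := exists_skew C.card
  have hz0 : (i / ho q x y) ^ q ≠ 0 := pow_ne_zero _ (div_ne_zero hi0 hxy)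
  obtain ⟨z, hz⟩ : ∃ z, z = (i / ho q x y) ^ q := ⟨_, rfl⟩
  rw [← hz] at hz0
  have hzq : z ^ q = i / ho q x y := by rw [hz, pow_q_pow_q C.card]
  have hxy' : ho q x (z • y) = i := by rw [hsr, hzq, div_mul_cancel₀ _ hxy]
  have e : ∀ β : F, β • y = (β / z) • z • y := by
    intro β
    rw [smul_smul, div_mul_cancel₀ _ hz0]
  rw [e β, e β'] at hn
  rw [e β] at hn0 h
  rw [e β']
  refine C.plane0 hx (C.smul hy hz0) (by rw [hxy']; exact hi0) (by rw [hxy', hi]) hux ?_ hn0 hn h
  rw [hsr, huy, mul_zero]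

/-- all nonzero isotropic vectors of `W` are centres -/
def Full (q : ℕ) (Δ : (Fin n → F) → Prop) (W : Submodule F (Fin n → F)) : Prop :=
  ∀ v ∈ W, v ≠ 0 → ho q v v = 0 → Δ v

theorem Ctx.nd (C : Ctx q Δ) {W : Submodule F (Fin n → F)} (hW : Full q Δ W) {a b u : Fin n → F} (ha : a ∈ W)
    (hb : b ∈ W) (hu : ∀ w ∈ W, ho q u w = 0) (hν : ho q a a ≠ 0) (hab : ho q b b = ho q a a)
    (hd : ho q a b * ho q b a ≠ ho q a a ^ 2) (h : Δ (a + u)) : Δ (b + u) := by
  have hF := C.card
  have hνq : ho q a a ^ q = ho q a a := (ho_swap hF a a).symm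
  obtain ⟨l, hl⟩ : ∃ l, l = ho q b a / ho q a a := ⟨_, rfl⟩
  obtain ⟨b', hb'⟩ : ∃ b', b' = b - l • a := ⟨_, rfl⟩
  have hba : ho q b a = l * ho q a a := by rw [hl, div_mul_cancel₀ _ hν]
  have h1 : ho q b' a = 0 := by rw [hb', hbl, hsl, hba, sub_self]
  have h1' : ho q a b' = 0 := ho_zero_swap hF h1
  have hba' : ho q a b = l ^ q * ho q a a := by rw [ho_swap hF b a, hba, mul_pow, hνq]
  have hδ : ho q b' b' = ho q a a - l * l ^ q * ho q a a := by
    have e : ho q b' b' = ho q b' b := by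
      have e1 : ho q b' b' = ho q b' (b - l • a) := by rw [← hb']
      rw [e1, hbr hF, hsr, h1, mul_zero, sub_zero]
    rw [e, hb', hbl, hsl, hab, hba']
    ring
  have hδ0 : ho q b' b' ≠ 0 := by
    intro h0
    apply hd
    rw [hba, hba']
    rw [h0] at hδ
    linear_combination (ho q a a) * hδ
  have hδq : ho q b' b' ^ q = ho q b' b' := (ho_swap hF b' b').symm
  obtain ⟨m, hm0, hm⟩ := exists_norm_eq_ne hF (c := -ho q a a / ho q b' b')
    (by rw [div_pow, neg_pow_q hF, hνq, hδq]) (div_ne_zero (neg_ne_zero.2 hν) hδ0)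
  have hm' : m * m ^ q * ho q b' b' = -ho q a a := by rw [hm, div_mul_cancel₀ _ hδ0]
  have hb'W : b' ∈ W := by rw [hb']; exact W.sub_mem hb (W.smul_mem _ ha)
  have hx : ho q (a + m • b') (a + m • b') = 0 := by
    rw [ho_norm_add hF, h1, h1']
    linear_combination hm'
  have hy : ho q (a + (-m) • b') (a + (-m) • b') = 0 := by
    rw [ho_norm_add hF, h1, h1', neg_pow_q hF]
    linear_combination hm'
  have hxa : ho q (a + m • b') a ≠ 0 := by
    rw [hal, hsl, h1, mul_zero, add_zero]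
    exact hν
  have hya : ho q (a + (-m) • b') a ≠ 0 := by
    rw [hal, hsl, h1, mul_zero, add_zero]
    exact hν
  have hxy : ho q (a + m • b') (a + (-m) • b') ≠ 0 := by
    rw [hal, har hF, har hF, hsl, hsl, hsr, hsr, h1, h1', neg_pow_q hF]
    have e : ho q a a + -m ^ q * 0 + (m * 0 + m * (-m ^ q * ho q b' b')) = 2 * ho q a a := by
      linear_combination -hm'
    rw [e]
    exact mul_ne_zero C.two hν
  have hne : ∀ v : Fin n → F, ho q v a ≠ 0 → v ≠ 0 := by
    rintro v hv rfl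
    exact hv (herm_zero_left _)
  have hΔx := hW _ (W.add_mem ha (W.smul_mem m hb'W)) (hne _ hxa) hx
  have hΔy := hW _ (W.add_mem ha (W.smul_mem (-m) hb'W)) (hne _ hya) hy
  have h2 := C.two
  have : NeZero (2 : F) := ⟨C.two⟩
  have ea : a = (1 / 2 : F) • (a + m • b') + (1 / 2 : F) • (a + (-m) • b') := by
    have e : (1 / 2 : F) • (a + m • b') + (1 / 2 : F) • (a + (-m) • b') = (1 / 2 + 1 / 2 : F) • a := by module
    rw [e, add_halves, one_smul]
  have eb : b = (l / 2 + 1 / (2 * m)) • (a + m • b') + (l / 2 - 1 / (2 * m)) • (a + (-m) • b') := by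
    have e : (l / 2 + 1 / (2 * m)) • (a + m • b') + (l / 2 - 1 / (2 * m)) • (a + (-m) • b') =
        (l / 2 + l / 2) • a + (m * (1 / (2 * m)) + m * (1 / (2 * m))) • b' := by module
    have e2 : m * (1 / (2 * m)) + m * (1 / (2 * m)) = 1 := by
      field_simp
      norm_num
    rw [e, e2, one_smul, add_halves, hb']
    abel
  have hu1 : ho q u (a + m • b') = 0 := hu _ (W.add_mem ha (W.smul_mem m hb'W))
  have hu2 : ho q u (a + (-m) • b') = 0 := hu _ (W.add_mem ha (W.smul_mem (-m) hb'W))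
  generalize a + m • b' = x at *
  generalize a + (-m) • b' = y at *
  rw [ea] at hν hab h
  rw [eb] at hab ⊢
  exact C.plane hΔx hΔy hxy hu1 hu2 hν hab h

/-- `V = W + W^⊥` -/
def Spl (q : ℕ) (W : Submodule F (Fin n → F)) : Prop :=
  ∀ v : Fin n → F, ∃ w ∈ W, ∃ u, (∀ w' ∈ W, ho q u w' = 0) ∧ v = w + u

theorem Spl.nd (hF : Fintype.card F = q ^ 2) {W : Submodule F (Fin n → F)} (hW : Spl q W) {w : Fin n → F}
    (hw : w ∈ W) (h : w ≠ 0) : ∃ v ∈ W, ho q w v ≠ 0 := by
  by_contra hcon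
  push Not at hcon
  apply h
  apply herm_nondeg hF
  intro v
  obtain ⟨w', hw', u, hu, rfl⟩ := hW v
  have e : ho q w (w' + u) = 0 := by
    rw [har hF, hcon w' hw', ho_zero_swap hF (hu w hw), add_zero]
  exact e

theorem spl_bot (hF : Fintype.card F = q ^ 2) : Spl q (⊥ : Submodule F (Fin n → F)) := fun v =>
  ⟨0, Submodule.zero_mem _, v, by
    intro w' hw'
    rw [(Submodule.mem_bot F).1 hw']
    exact herm_zero_right hF _, by rw [zero_add]⟩

theorem Spl.step (hF : Fintype.card F = q ^ 2) {W : Submodule F (Fin n → F)} (hW : Spl q W) {u : Fin n → F}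
    (hu : ∀ w ∈ W, ho q u w = 0) (hu0 : ho q u u ≠ 0) : Spl q (W ⊔ Submodule.span F {u}) := by
  intro v
  obtain ⟨w, hw, v', hv', rfl⟩ := hW v
  refine ⟨w + (ho q v' u / ho q u u) • u, Submodule.add_mem_sup hw
    (Submodule.smul_mem _ _ (Submodule.mem_span_singleton_self u)), v' - (ho q v' u / ho q u u) • u, ?_, by abel⟩
  intro x hx
  obtain ⟨w', hw', y, hy, rfl⟩ := Submodule.mem_sup.1 hx
  obtain ⟨c, rfl⟩ := Submodule.mem_span_singleton.1 hy
  rw [hbl, hsl, har hF, har hF, hsr, hsr, hv' w' hw', hu w' hw']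
  field_simp
  ring

theorem spl_single (hF : Fintype.card F = q ^ 2) {a : Fin n → F} (ha : ho q a a ≠ 0) :
    Spl q (Submodule.span F {a}) := by
  have h := (spl_bot (n := n) hF).step hF (u := a) (by
    intro w hw
    rw [(Submodule.mem_bot F).1 hw]
    exact herm_zero_right hF _) ha
  rwa [bot_sup_eq] at h

theorem spl_pair (hF : Fintype.card F = q ^ 2) {x y : Fin n → F} (hx : ho q x x = 0) (hy : ho q y y = 0)
    (hxy : ho q x y ≠ 0) : Spl q (Submodule.span F {x} ⊔ Submodule.span F {y}) := by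
  have hyx := ho_ne_swap hF hxy
  intro v
  refine ⟨(ho q v y / ho q x y) • x + (ho q v x / ho q y x) • y, Submodule.add_mem_sup
    (Submodule.smul_mem _ _ (Submodule.mem_span_singleton_self x))
    (Submodule.smul_mem _ _ (Submodule.mem_span_singleton_self y)),
    v - ((ho q v y / ho q x y) • x + (ho q v x / ho q y x) • y), ?_, by abel⟩
  intro z hz
  obtain ⟨x', hx', y', hy', rfl⟩ := Submodule.mem_sup.1 hz
  obtain ⟨c, rfl⟩ := Submodule.mem_span_singleton.1 hx'
  obtain ⟨d, rfl⟩ := Submodule.mem_span_singleton.1 hy'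
  rw [hbl, hal, hsl, hsl, har hF, har hF, har hF, hsr, hsr, hsr, hsr, hsr, hsr, hx, hy]
  field_simp
  ring

theorem exists_noniso (hF : Fintype.card F = q ^ 2) (h2 : (2 : F) ≠ 0) {f g : Fin n → F} (h : ho q f g ≠ 0) :
    ∃ a b : F, ho q (a • f + b • g) (a • f + b • g) ≠ 0 := by
  by_contra hcon
  push Not at hcon
  have h1 := hcon 1 0
  have h3 := hcon 0 1
  have h4 := hcon 1 ((1 / ho q f g) ^ q)
  rw [one_smul, zero_smul, add_zero] at h1
  rw [one_smul, zero_smul, zero_add] at h3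
  rw [one_smul, ho_norm_add hF, h1, h3, pow_q_pow_q hF, ho_swap hF f g, div_pow, one_pow,
    one_div_mul_cancel h, one_div_mul_cancel (pow_ne_zero q h)] at h4
  apply h2
  linear_combination h4

theorem exists_perp_noniso (hF : Fintype.card F = q ^ 2) (h2 : (2 : F) ≠ 0) {P W : Submodule F (Fin n → F)}
    (hP : Spl q P) (hW : Spl q W) (hPW : P < W) : ∃ g ∈ W, (∀ p ∈ P, ho q g p = 0) ∧ ho q g g ≠ 0 := by
  obtain ⟨v, hvW, hvP⟩ := SetLike.exists_of_lt hPW
  obtain ⟨p, hp, v', hv', rfl⟩ := hP v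
  have hv'W : v' ∈ W := by
    have h := W.sub_mem hvW (hPW.le hp)
    rwa [add_sub_cancel_left] at h
  have hv0 : v' ≠ 0 := by
    rintro rfl
    rw [add_zero] at hvP
    exact hvP hp
  obtain ⟨x, hxW, hx⟩ := hW.nd hF hv'W hv0
  obtain ⟨p', hp', x', hx', rfl⟩ := hP x
  have hx'W : x' ∈ W := by
    have h := W.sub_mem hxW (hPW.le hp')
    rwa [add_sub_cancel_left] at h
  rw [har hF, hv' p' hp', zero_add] at hx
  obtain ⟨a, b, hab⟩ := exists_noniso hF h2 hx
  refine ⟨a • v' + b • x', W.add_mem (W.smul_mem a hv'W) (W.smul_mem b hx'W), ?_, hab⟩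
  intro p hp
  rw [hal, hsl, hsl, hv' p hp, hx' p hp, mul_zero, mul_zero, add_zero]

theorem span_single_lt {W : Submodule F (Fin n → F)} (h3 : 3 ≤ finrank F W) {a : Fin n → F} (ha : a ∈ W) :
    Submodule.span F {a} < W := by
  refine lt_of_le_of_ne ((Submodule.span_singleton_le_iff_mem a W).2 ha) ?_
  rintro rfl
  have h := finrank_span_le_card (R := F) ({a} : Set (Fin n → F))
  rw [Set.toFinset_singleton, Finset.card_singleton] at h
  omega

theorem span_pair_lt {W : Submodule F (Fin n → F)} (h3 : 3 ≤ finrank F W) {x y : Fin n → F} (hx : x ∈ W)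
    (hy : y ∈ W) : Submodule.span F {x} ⊔ Submodule.span F {y} < W := by
  refine lt_of_le_of_ne (sup_le ((Submodule.span_singleton_le_iff_mem x W).2 hx)
    ((Submodule.span_singleton_le_iff_mem y W).2 hy)) ?_
  rintro rfl
  have h := finrank_span_le_card (R := F) ({x} : Set (Fin n → F))
  have h' := finrank_span_le_card (R := F) ({y} : Set (Fin n → F))
  rw [Set.toFinset_singleton, Finset.card_singleton] at h h'
  have h4 := Submodule.finrank_add_le_finrank_add_finrank (Submodule.span F {x}) (Submodule.span F {y})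
  omega

/-- transitivity on the vectors of a given nonzero norm -/
theorem Ctx.trN (C : Ctx q Δ) {W : Submodule F (Fin n → F)} (hS : Spl q W) (h3 : 3 ≤ finrank F W)
    (hW : Full q Δ W) {a b u : Fin n → F} (ha : a ∈ W)
    (hb : b ∈ W) (hu : ∀ w ∈ W, ho q u w = 0) (hν : ho q a a ≠ 0) (hab : ho q b b = ho q a a)
    (h : Δ (a + u)) : Δ (b + u) := by
  have hF := C.card
  by_cases hd : ho q a b * ho q b a = ho q a a ^ 2
  swap
  · exact C.nd hW ha hb hu hν hab hd h
  have hνq : ho q a a ^ q = ho q a a := (ho_swap hF a a).symm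
  obtain ⟨c, hcW, hcc, hac, hcb⟩ : ∃ c ∈ W, ho q c c = ho q a a ∧ ho q a c = 0 ∧
      ho q c b * ho q b c ≠ ho q a a ^ 2 := by
    obtain ⟨g, hgW, hga, hg0⟩ := exists_perp_noniso hF C.two (spl_single hF hν) hS (span_single_lt h3 ha)
    have hga := hga a (Submodule.mem_span_singleton_self a)
    have hgq : ho q g g ^ q = ho q g g := (ho_swap hF g g).symm
    obtain ⟨m, hm0, hm⟩ := exists_norm_eq_ne hF (c := ho q a a / ho q g g) (by rw [div_pow, hνq, hgq])
      (div_ne_zero hν hg0)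
    obtain ⟨c0, hc0⟩ : ∃ c0, c0 = m • g := ⟨_, rfl⟩
    have hc0W : c0 ∈ W := by rw [hc0]; exact W.smul_mem m hgW
    have hc0c : ho q c0 c0 = ho q a a := by
      rw [hc0, hsl, hsr, ← mul_assoc, hm, div_mul_cancel₀ _ hg0]
    have hc0a : ho q c0 a = 0 := by rw [hc0, hsl, hga, mul_zero]
    have hac0 : ho q a c0 = 0 := ho_zero_swap hF hc0a
    by_cases h4 : ho q c0 b * ho q b c0 = ho q a a ^ 2
    swap
    · exact ⟨c0, hc0W, hc0c, hac0, h4⟩
    have he0 : ho q b c0 ≠ 0 := by
      intro h0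
      rw [h0, mul_zero] at h4
      exact pow_ne_zero 2 hν h4.symm
    have hcb0 : ho q c0 b = ho q b c0 ^ q := ho_swap hF b c0
    obtain ⟨l, hl⟩ : ∃ l, l = ho q b a / ho q a a := ⟨_, rfl⟩
    obtain ⟨b', hb'⟩ : ∃ b', b' = b - l • a := ⟨_, rfl⟩
    have hba : ho q b a = l * ho q a a := by rw [hl, div_mul_cancel₀ _ hν]
    have hab1 : ho q a b = l ^ q * ho q a a := by rw [ho_swap hF b a, hba, mul_pow, hνq]
    have hb'a : ho q b' a = 0 := by rw [hb', hbl, hsl, hba, sub_self]
    have hab' : ho q a b' = 0 := ho_zero_swap hF hb'a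
    have hb'W : b' ∈ W := by rw [hb']; exact W.sub_mem hb (W.smul_mem _ ha)
    have hb'c : ho q b' c0 = ho q b c0 := by rw [hb', hbl, hsl, hac0, mul_zero, sub_zero]
    have hcb' : ho q c0 b' = ho q b c0 ^ q := by rw [ho_swap hF b' c0, hb'c]
    have hll : l * l ^ q = 1 := by
      have h5 : (l * l ^ q) * ho q a a ^ 2 = 1 * ho q a a ^ 2 := by
        rw [hba, hab1] at hd
        linear_combination hd
      exact mul_right_cancel₀ (pow_ne_zero 2 hν) h5
    have hbb' : ho q b b' = 0 := by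
      rw [hb', hbr hF, hsr, hab, hba]
      linear_combination -(ho q a a) * hll
    have hb'b' : ho q b' b' = 0 := by
      have e1 : ho q b' b' = ho q (b - l • a) b' := by rw [← hb']
      rw [e1, hbl, hsl, hbb', hab', mul_zero, sub_zero]
    obtain ⟨k, hk0, hk⟩ := exists_norm_eq_ne hF (c := (-1 : F)) (by rw [neg_pow_q hF, one_pow])
      (neg_ne_zero.2 one_ne_zero)
    have hkq0 : k ^ q ≠ 0 := pow_ne_zero _ hk0
    have heq0 : ho q b c0 ^ q ≠ 0 := pow_ne_zero _ he0
    obtain ⟨r, hr⟩ : ∃ r, r = ho q a a / (k ^ q * ho q b c0) := ⟨_, rfl⟩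
    have hrq : r ^ q = ho q a a / (k * ho q b c0 ^ q) := by
      rw [hr, div_pow, mul_pow, pow_q_pow_q hF, hνq]
    have e1 : r * (k ^ q * ho q b c0) = ho q a a := by
      rw [hr, div_mul_cancel₀ _ (mul_ne_zero hkq0 he0)]
    have e2 : r ^ q * (k * ho q b c0 ^ q) = ho q a a := by
      rw [hrq, div_mul_cancel₀ _ (mul_ne_zero hk0 heq0)]
    refine ⟨k • c0 + r • b', W.add_mem (W.smul_mem k hc0W) (W.smul_mem r hb'W), ?_, ?_, ?_⟩
    · rw [hal, har hF, har hF, hsl, hsl, hsl, hsl, hsr, hsr, hsr, hsr, hc0c, hcb', hb'c, hb'b']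
      linear_combination (ho q a a) * hk + e1 + e2
    · rw [har hF, hsr, hsr, hac0, hab', mul_zero, mul_zero, add_zero]
    · have e3 : ho q b (k • c0 + r • b') = k ^ q * ho q b c0 := by
        rw [har hF, hsr, hsr, hbb', mul_zero, add_zero]
      have e4 : ho q (k • c0 + r • b') b = k * ho q b c0 ^ q := by
        rw [ho_swap hF b, e3, mul_pow, pow_q_pow_q hF]
      rw [e3, e4]
      intro h5
      rw [hcb0] at h4
      have h6 : (2 : F) * ho q a a ^ 2 = 0 := by
        linear_combination (ho q b c0 ^ q * ho q b c0) * hk - h4 - h5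
      exact mul_ne_zero C.two (pow_ne_zero 2 hν) h6
  have h5 := C.nd hW ha hcW hu hν hcc (by rw [hac, zero_mul]; exact (pow_ne_zero 2 hν).symm) h
  exact C.nd hW hcW hb hu (by rw [hcc]; exact hν) (by rw [hab, hcc]) (by rw [hcc]; exact hcb) h5

theorem Ctx.mvI (C : Ctx q Δ) {W : Submodule F (Fin n → F)} (hW : Full q Δ W) {w y u : Fin n → F} (hw : w ∈ W)
    (hy : y ∈ W) (hu : ∀ w ∈ W, ho q u w = 0) (hww : ho q w w = 0) (hyy : ho q y y = 0) (h0 : ho q w y ≠ 0)
    (hsk : ho q w y ^ q = -ho q w y) (h : Δ (w + u)) : Δ (y + u) := by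
  have hF := C.card
  have hyw : ho q y w = -ho q w y := by rw [ho_swap hF w y, hsk]
  have hx : ho q (y - w) (y - w) = 0 := by
    rw [hbl, hbr hF, hbr hF, hww, hyy, hyw]
    ring
  have hwx : ho q w (y - w) = ho q w y := by rw [hbr hF, hww, sub_zero]
  have hx0 : y - w ≠ 0 := by
    intro h1
    rw [h1] at hwx
    exact h0 (hwx.symm.trans (herm_zero_right hF _))
  have hΔ := hW _ (W.sub_mem hy hw) hx0 hx
  have h1 := C.mv h hΔ (c := 1 / ho q w y) (by
    rw [div_pow, one_pow, hsk]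
    field_simp
    ring)
  have h2 : ho q (w + u) (y - w) = ho q w y := by
    rw [hal, hwx, hu _ (W.sub_mem hy hw), add_zero]
  rw [h2, one_div_mul_cancel h0, one_smul] at h1
  rwa [show w + u + (y - w) = y + u by abel] at h1

theorem Ctx.iso1 (C : Ctx q Δ) {W : Submodule F (Fin n → F)} (hS : Spl q W) (h3 : 3 ≤ finrank F W)
    (hW : Full q Δ W) {a b u : Fin n → F} (ha : a ∈ W)
    (hb : b ∈ W) (hu : ∀ w ∈ W, ho q u w = 0) (haa : ho q a a = 0) (hbb : ho q b b = 0) (hab : ho q a b ≠ 0)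
    (h : Δ (a + u)) : Δ (b + u) := by
  have hF := C.card
  obtain ⟨i, hi0, hi⟩ := exists_skew hF
  obtain ⟨g, hgW, hg, hgg⟩ := exists_perp_noniso hF C.two (spl_pair hF haa hbb hab) hS (span_pair_lt h3 ha hb)
  have hga : ho q g a = 0 := hg a (Submodule.mem_sup_left (Submodule.mem_span_singleton_self a))
  have hgb : ho q g b = 0 := hg b (Submodule.mem_sup_right (Submodule.mem_span_singleton_self b))
  have hag := ho_zero_swap hF hga
  have hbg := ho_zero_swap hF hgb
  have hgq : ho q g g ^ q = ho q g g := (ho_swap hF g g).symm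
  have hba : ho q b a = ho q a b ^ q := ho_swap hF a b
  have hba0 : ho q b a ≠ 0 := ho_ne_swap hF hab
  have habq : ho q b a ^ q = ho q a b := (ho_swap hF b a).symm
  obtain ⟨m, hm⟩ := exists_norm_eq hF (c := i * i * (1 / ho q a b + 1 / ho q b a) / ho q g g) (by
    rw [div_pow, mul_pow, mul_pow, hi, hgq, add_pow_q hF, div_pow, div_pow, one_pow, habq, ← hba]
    ring)
  have hm' : m * m ^ q * ho q g g = i * i * (1 / ho q a b + 1 / ho q b a) := by
    rw [hm, div_mul_cancel₀ _ hgg]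
  obtain ⟨y, hy⟩ : ∃ y, y = (i / ho q a b) • a + (i / ho q b a) • b + m • g := ⟨_, rfl⟩
  have hyW : y ∈ W := by
    rw [hy]
    exact W.add_mem (W.add_mem (W.smul_mem _ ha) (W.smul_mem _ hb)) (W.smul_mem _ hgW)
  have hya : ho q y a = i := by
    rw [hy, hal, hal, hsl, hsl, hsl, haa, hga]
    field_simp
    ring
  have hyb : ho q y b = i := by
    rw [hy, hal, hal, hsl, hsl, hsl, hbb, hgb]
    field_simp
    ring
  have hyg : ho q y g = m * ho q g g := by
    rw [hy, hal, hal, hsl, hsl, hsl, hag, hbg]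
    ring
  have hyy : ho q y y = 0 := by
    have e1 : ho q y y = ho q y ((i / ho q a b) • a + (i / ho q b a) • b + m • g) := by rw [← hy]
    rw [e1, har hF, har hF, hsr, hsr, hsr, hya, hyb, hyg, div_pow, div_pow, hi, habq, ← hba]
    linear_combination hm'
  have hay : ho q a y = -i := by rw [ho_swap hF y a, hya, hi]
  have h1 := C.mvI hW ha hyW hu haa hyy (by rw [hay]; exact neg_ne_zero.2 hi0) (by rw [hay, neg_pow_q hF, hi]) h
  exact C.mvI hW hyW hb hu hyy hbb (by rw [hyb]; exact hi0) (by rw [hyb, hi]) h1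

theorem exists_iso (hF : Fintype.card F = q ^ 2) (h2 : (2 : F) ≠ 0) {W : Submodule F (Fin n → F)} (hS : Spl q W)
    {a : Fin n → F} (ha : a ∈ W) (ha0 : a ≠ 0) (haa : ho q a a = 0) :
    ∃ x ∈ W, ho q x x = 0 ∧ ho q a x ≠ 0 := by
  obtain ⟨v, hv, hav⟩ := hS.nd hF ha ha0
  have hva : ho q v a ≠ 0 := ho_ne_swap hF hav
  have hvq : ho q v v ^ q = ho q v v := (ho_swap hF v v).symm
  obtain ⟨s, hs⟩ : ∃ s, s = -ho q v v / (2 * ho q a v) := ⟨_, rfl⟩
  have h2q : (2 : F) ^ q = 2 := by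
    have h := add_pow_q hF (1 : F) 1
    rw [one_pow, one_add_one_eq_two] at h
    exact h
  have hsq : s ^ q = -ho q v v / (2 * ho q v a) := by
    rw [hs, div_pow, neg_pow_q hF, hvq, mul_pow, h2q, ← ho_swap hF a v]
  refine ⟨v + s • a, W.add_mem hv (W.smul_mem s ha), ?_, ?_⟩
  · rw [ho_norm_add hF, haa, hsq, hs]
    field_simp
    ring
  · rw [har hF, hsr, haa, mul_zero, add_zero]
    exact hav

theorem exists_common (hF : Fintype.card F = q ^ 2) (h2 : (2 : F) ≠ 0) {W : Submodule F (Fin n → F)} (hS : Spl q W)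
    {a b : Fin n → F} (ha : a ∈ W) (ha0 : a ≠ 0) (haa : ho q a a = 0) (hb : b ∈ W) (hb0 : b ≠ 0)
    (hbb : ho q b b = 0) : ∃ x ∈ W, ho q x x = 0 ∧ ho q a x ≠ 0 ∧ ho q b x ≠ 0 := by
  obtain ⟨x, hxW, hxx, hax⟩ := exists_iso hF h2 hS ha ha0 haa
  obtain ⟨y, hyW, hyy, hby⟩ := exists_iso hF h2 hS hb hb0 hbb
  by_cases hbx : ho q b x = 0
  swap
  · exact ⟨x, hxW, hxx, hax, hbx⟩
  by_cases hay : ho q a y = 0
  swap
  · exact ⟨y, hyW, hyy, hay, hby⟩
  obtain ⟨s, hs0, hs⟩ : ∃ s : F, s ≠ 0 ∧ s * ho q y x + s ^ q * ho q x y = 0 := by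
    by_cases hxy : ho q x y = 0
    · exact ⟨1, one_ne_zero, by rw [hxy, ho_zero_swap hF hxy, mul_zero, mul_zero, add_zero]⟩
    · obtain ⟨i, hi0, hi⟩ := exists_skew hF
      have hyx : ho q y x ≠ 0 := ho_ne_swap hF hxy
      refine ⟨i / ho q y x, div_ne_zero hi0 hyx, ?_⟩
      rw [div_pow, hi, ← ho_swap hF y x]
      field_simp
      ring
  refine ⟨x + s • y, W.add_mem hxW (W.smul_mem s hyW), ?_, ?_, ?_⟩
  · rw [ho_norm_add hF, hxx, hyy]
    linear_combination hs
  · rw [har hF, hsr, hay, mul_zero, add_zero]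
    exact hax
  · rw [har hF, hsr, hbx, zero_add]
    exact mul_ne_zero (pow_ne_zero _ hs0) hby

/-- transitivity on the nonzero isotropic vectors -/
theorem Ctx.trI (C : Ctx q Δ) {W : Submodule F (Fin n → F)} (hS : Spl q W) (h3 : 3 ≤ finrank F W)
    (hW : Full q Δ W) {a b u : Fin n → F} (ha : a ∈ W) (ha0 : a ≠ 0)
    (hb : b ∈ W) (hb0 : b ≠ 0) (hu : ∀ w ∈ W, ho q u w = 0) (haa : ho q a a = 0) (hbb : ho q b b = 0)
    (h : Δ (a + u)) : Δ (b + u) := by
  have hF := C.card
  obtain ⟨x, hxW, hxx, hax, hbx⟩ := exists_common hF C.two hS ha ha0 haa hb hb0 hbb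
  exact C.iso1 hS h3 hW hxW hb hu hxx hbb (ho_ne_swap hF hbx) (C.iso1 hS h3 hW ha hxW hu haa hxx hax h)

/-- there is a centre whose component orthogonal to `W` is not isotropic -/
theorem Ctx.exists_up (C : Ctx q Δ) {W : Submodule F (Fin n → F)} (hS : Spl q W) (h3 : 3 ≤ finrank F W)
    (hW : Full q Δ W) (hT : W ≠ ⊤) : ∃ w ∈ W, ∃ u, (∀ w ∈ W, ho q u w = 0) ∧ Δ (w + u) ∧ ho q u u ≠ 0 := by
  have hF := C.card
  by_contra hcon
  have hnon : ∀ w ∈ W, ∀ u, (∀ w ∈ W, ho q u w = 0) → Δ (w + u) → ho q u u = 0 := by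
    intro w hw u hu h
    by_contra h0
    exact hcon ⟨w, hw, u, hu, h, h0⟩
  have hnon' : ∀ w ∈ W, ∀ u, (∀ w ∈ W, ho q u w = 0) → Δ (w + u) → ho q w w = 0 := by
    intro w hw u hu h
    have h1 := C.iso h
    rw [hal, har hF, har hF, hu w hw, ho_zero_swap hF (hu w hw), hnon w hw u hu h] at h1
    linear_combination h1
  have hbot : W ≠ ⊥ := by
    rintro rfl
    rw [finrank_bot] at h3
    omega
  -- a centre `w1 + u1` with both components nonzero
  obtain ⟨w1, hw1, u1, hu1, hΔ1, hw10, hu10⟩ : ∃ w1 ∈ W, ∃ u1, (∀ w ∈ W, ho q u1 w = 0) ∧ Δ (w1 + u1) ∧ w1 ≠ 0 ∧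
      u1 ≠ 0 := by
    by_contra hcon1
    rcases C.irr W (by
      intro b hb
      by_contra hcon2
      push Not at hcon2
      obtain ⟨hbW, v, hv, hvb⟩ := hcon2
      obtain ⟨w, hw, u, hu, rfl⟩ := hS b
      refine hcon1 ⟨w, hw, u, hu, hb, ?_, ?_⟩
      · rintro rfl
        apply hvb
        rw [zero_add]
        exact ho_zero_swap hF (hu v hv)
      · rintro rfl
        rw [add_zero] at hbW
        exact hbW hw) with h | h
    · exact hbot h
    · exact hT h
  have hw11 := hnon' w1 hw1 u1 hu1 hΔ1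
  have hu11 := hnon w1 hw1 u1 hu1 hΔ1
  -- a centre not orthogonal to `u1`
  obtain ⟨b, hb, hub⟩ : ∃ b, Δ b ∧ ho q b u1 ≠ 0 := by
    by_contra hcon1
    push Not at hcon1
    rcases C.irr (Submodule.span F {u1}) (by
      intro b hb
      right
      intro v hv
      obtain ⟨c, rfl⟩ := Submodule.mem_span_singleton.1 hv
      rw [hsl, ho_zero_swap hF (hcon1 b hb), mul_zero]) with h | h
    · exact hu10 ((Submodule.span_singleton_eq_bot (R := F)).1 h)
    · have h4 := finrank_span_le_card (R := F) ({u1} : Set (Fin n → F))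
      rw [h, finrank_top, Module.finrank_fin_fun, Set.toFinset_singleton, Finset.card_singleton] at h4
      have := C.dim
      omega
  obtain ⟨i, hi0, hi⟩ := exists_skew hF
  -- a centre `w2 + u2`, `w2 ≠ 0`, `u2` not orthogonal to `u1`
  obtain ⟨w2, hw2, u2, hu2, hΔ2, hw20, hB⟩ : ∃ w2 ∈ W, ∃ u2, (∀ w ∈ W, ho q u2 w = 0) ∧ Δ (w2 + u2) ∧ w2 ≠ 0 ∧
      ho q u2 u1 ≠ 0 := by
    obtain ⟨w2, hw2, u2, hu2, rfl⟩ := hS b
    rw [hal, ho_zero_swap hF (hu1 w2 hw2), zero_add] at hub
    by_cases hw20 : w2 = 0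
    swap
    · exact ⟨w2, hw2, u2, hu2, hb, hw20, hub⟩
    have h1 := C.mv hb hΔ1 (c := i) (by rw [hi, add_neg_cancel])
    have h2 : ho q (w2 + u2) (w1 + u1) = ho q u2 u1 := by
      rw [hw20, zero_add, har hF, hu2 w1 hw1, zero_add]
    rw [h2] at h1
    refine ⟨(i * ho q u2 u1) • w1, W.smul_mem _ hw1, u2 + (i * ho q u2 u1) • u1, ?_, ?_,
      smul_ne_zero (mul_ne_zero hi0 hub) hw10, ?_⟩
    · intro w hw
      rw [hal, hsl, hu2 w hw, hu1 w hw, mul_zero, add_zero]
    · rw [hw20, zero_add, smul_add] at h1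
      rwa [add_left_comm] at h1
    · rw [hal, hsl, hu11, mul_zero, add_zero]
      exact hub
  have hw22 := hnon' w2 hw2 u2 hu2 hΔ2
  have hu22 := hnon w2 hw2 u2 hu2 hΔ2
  -- `w` isotropic in `W` with `h(w2, w) = (i - 1) B`
  obtain ⟨x, hxW, hxx, hwx⟩ := exists_iso hF C.two hS hw2 hw20 hw22
  have hi1 : i - 1 ≠ 0 := by
    intro h
    have h1 : i = 1 := by linear_combination h
    rw [h1, one_pow] at hi
    apply C.two
    linear_combination hi
  obtain ⟨z, hz⟩ : ∃ z, z = ((i - 1) * ho q u2 u1 / ho q w2 x) ^ q := ⟨_, rfl⟩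
  have hz0 : z ≠ 0 := by
    rw [hz]
    exact pow_ne_zero _ (div_ne_zero (mul_ne_zero hi1 hB) hwx)
  have hzq : z ^ q = (i - 1) * ho q u2 u1 / ho q w2 x := by rw [hz, pow_q_pow_q hF]
  have hx0 : x ≠ 0 := by
    rintro rfl
    exact hwx (herm_zero_right hF _)
  have hww : ho q w2 (z • x) = (i - 1) * ho q u2 u1 := by rw [hsr, hzq, div_mul_cancel₀ _ hwx]
  have hzz : ho q (z • x) (z • x) = 0 := by rw [hsl, hsr, hxx, mul_zero, mul_zero]
  have hzW : z • x ∈ W := W.smul_mem z hxW
  have h1 := C.trI hS h3 hW hw1 hw10 hzW (smul_ne_zero hz0 hx0) hu1 hw11 hzz hΔ1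
  have h2 : ho q (w2 + u2) (z • x + u1) = i * ho q u2 u1 := by
    rw [hal, har hF, har hF, hww, hu2 _ hzW, ho_zero_swap hF (hu1 w2 hw2)]
    ring
  have hBs : ho q u1 u2 = ho q u2 u1 ^ q := ho_swap hF u2 u1
  have hBq : ho q u2 u1 ^ q ≠ 0 := pow_ne_zero _ hB
  have h4 := C.mv hΔ2 h1 (c := 1 / (i * ho q u2 u1 * ho q u2 u1 ^ q)) (by
    rw [div_pow, one_pow, mul_pow, mul_pow, pow_q_pow_q hF, hi]
    field_simp
    ring)
  have h5 : 1 / (i * ho q u2 u1 * ho q u2 u1 ^ q) * (i * ho q u2 u1) = 1 / ho q u2 u1 ^ q := by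
    field_simp
  rw [h2, h5] at h4
  have h6 := hnon (w2 + (1 / ho q u2 u1 ^ q) • z • x) (W.add_mem hw2 (W.smul_mem _ hzW))
    (u2 + (1 / ho q u2 u1 ^ q) • u1) (by
      intro w hw
      rw [hal, hsl, hu2 w hw, hu1 w hw, mul_zero, add_zero]) (by
      rw [smul_add] at h4
      rw [add_add_add_comm] at h4
      exact h4)
  rw [ho_norm_add hF, hu22, hu11, hBs, div_pow, one_pow, pow_q_pow_q hF] at h6
  rw [one_div_mul_cancel hB, one_div_mul_cancel hBq] at h6
  apply C.two
  linear_combination h6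

/-- from `W` to `W + <u>` -/
theorem full_step (C : Ctx q Δ) {W : Submodule F (Fin n → F)} (hW : Full q Δ W) {w u : Fin n → F} (hw : w ∈ W)
    (hu : ∀ w ∈ W, ho q u w = 0) (h : Δ (w + u))
    (ht : ∀ b ∈ W, ho q b b = ho q w w → Δ (b + u)) : Full q Δ (W ⊔ Submodule.span F {u}) := by
  have hF := C.card
  have hn : ho q w w = -ho q u u := by
    have h1 := C.iso h
    rw [hal, har hF, har hF, hu w hw, ho_zero_swap hF (hu w hw)] at h1
    linear_combination h1
  intro v hv hv0 hvv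
  obtain ⟨b, hb, y, hy, rfl⟩ := Submodule.mem_sup.1 hv
  obtain ⟨c, rfl⟩ := Submodule.mem_span_singleton.1 hy
  by_cases hc : c = 0
  · rw [hc, zero_smul, add_zero] at hv0 hvv ⊢
    exact hW b hb hv0 hvv
  · have hcq : c ^ q ≠ 0 := pow_ne_zero _ hc
    rw [ho_norm_add hF, hu b hb, ho_zero_swap hF (hu b hb)] at hvv
    have h1 := ht (c⁻¹ • b) (W.smul_mem _ hb) (by
      rw [hsl, hsr, hn, inv_pow]
      field_simp
      linear_combination hvv)
    have h2 := C.smul h1 hc
    rwa [smul_add, smul_smul, mul_inv_cancel₀ hc, one_smul] at h2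

theorem lt_sup_span {W : Submodule F (Fin n → F)} {u : Fin n → F}
    (hu : ∀ w ∈ W, ho q u w = 0) (huu : ho q u u ≠ 0) : W < W ⊔ Submodule.span F {u} := by
  refine lt_of_le_of_ne le_sup_left ?_
  intro h
  apply huu
  apply hu
  rw [h]
  exact Submodule.mem_sup_right (Submodule.mem_span_singleton_self u)

/-- the span of a nondegenerate triangle -/
theorem Ctx.base (C : Ctx q Δ) {x y z : Fin n → F} (hx : Δ x) (hy : Δ y) (hz : Δ z)
    (hdet : ho q x y * ho q y z * ho q z x + ho q x z * ho q z y * ho q y x ≠ 0) :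
    ∃ W : Submodule F (Fin n → F), Spl q W ∧ 3 ≤ finrank F W ∧ Full q Δ W := by
  have hF := C.card
  have hxy : ho q x y ≠ 0 := by
    intro h0
    apply hdet
    rw [h0, ho_zero_swap hF h0]
    ring
  have hyx : ho q y x ≠ 0 := ho_ne_swap hF hxy
  have hxx := C.iso hx
  have hyy := C.iso hy
  obtain ⟨P, hP⟩ : ∃ P, P = Submodule.span F {x} ⊔ Submodule.span F {y} := ⟨_, rfl⟩
  have hmem : ∀ v, v ∈ P ↔ ∃ α β : F, v = α • x + β • y := by
    intro v
    rw [hP, Submodule.mem_sup]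
    constructor
    · rintro ⟨x', hx', y', hy', rfl⟩
      obtain ⟨c, rfl⟩ := Submodule.mem_span_singleton.1 hx'
      obtain ⟨d, rfl⟩ := Submodule.mem_span_singleton.1 hy'
      exact ⟨c, d, rfl⟩
    · rintro ⟨c, d, rfl⟩
      exact ⟨c • x, Submodule.smul_mem _ _ (Submodule.mem_span_singleton_self x), d • y,
        Submodule.smul_mem _ _ (Submodule.mem_span_singleton_self y), rfl⟩
  have hxP : x ∈ P := (hmem x).2 ⟨1, 0, by rw [one_smul, zero_smul, add_zero]⟩
  have hyP : y ∈ P := (hmem y).2 ⟨0, 1, by rw [one_smul, zero_smul, zero_add]⟩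
  have hSP : Spl q P := by rw [hP]; exact spl_pair hF hxx hyy hxy
  have hPf : Full q Δ P := by
    intro v hv hv0 hvv
    obtain ⟨α, β, rfl⟩ := (hmem v).1 hv
    by_cases hα : α = 0
    · rw [hα, zero_smul, zero_add] at hv0 ⊢
      exact C.smul hy fun h => hv0 (by rw [h, zero_smul])
    · have e : α • x + β • y = α • (x + (β / α) • y) := by
        rw [smul_add, smul_smul, mul_div_cancel₀ _ hα]
      rw [e] at hvv ⊢
      apply C.smul _ hα
      apply C.line hx hy hxy
      rw [hsl, hsr] at hvv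
      rcases mul_eq_zero.1 hvv with h | h
      · exact absurd h hα
      · exact (mul_eq_zero.1 h).resolve_left (pow_ne_zero _ hα)
  obtain ⟨w, hw, u, hu, rfl⟩ := hSP z
  obtain ⟨α, β, rfl⟩ := (hmem w).1 hw
  have hux : ho q u x = 0 := hu x hxP
  have huy : ho q u y = 0 := hu y hyP
  have hxu := ho_zero_swap hF hux
  have hyu := ho_zero_swap hF huy
  have hnorm : ho q (α • x + β • y) (α • x + β • y) = α * β ^ q * ho q x y + β * α ^ q * ho q y x := by
    rw [hal, har hF, har hF, hsl, hsl, hsl, hsl, hsr, hsr, hsr, hsr, hxx, hyy]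
    ring
  have hww : ho q (α • x + β • y) (α • x + β • y) ≠ 0 := by
    intro h0
    apply hdet
    rw [hnorm] at h0
    have e1 : ho q y (α • x + β • y + u) = α ^ q * ho q y x := by
      rw [har hF, har hF, hsr, hsr, hyy, hyu]
      ring
    have e2 : ho q (α • x + β • y + u) x = β * ho q y x := by
      rw [hal, hal, hsl, hsl, hxx, hux]
      ring
    have e3 : ho q x (α • x + β • y + u) = β ^ q * ho q x y := by
      rw [har hF, har hF, hsr, hsr, hxx, hxu]
      ring
    have e4 : ho q (α • x + β • y + u) y = α * ho q x y := by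
      rw [hal, hal, hsl, hsl, hyy, huy]
      ring
    rw [e1, e2, e3, e4]
    linear_combination (ho q x y * ho q y x) * h0
  have huu : ho q u u ≠ 0 := by
    intro h0
    apply hww
    have h1 := C.iso hz
    rw [hal, har hF (α • x + β • y), har hF u, hu _ hw, ho_zero_swap hF (hu _ hw), h0] at h1
    linear_combination h1
  refine ⟨P ⊔ Submodule.span F {u}, hSP.step hF hu huu, ?_, full_step C hPf hw hu hz ?_⟩
  · have h1 : finrank F P < finrank F (P ⊔ Submodule.span F {u} : Submodule F (Fin n → F)) :=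
      Submodule.finrank_lt_finrank_of_lt (lt_sup_span hu huu)
    have h2 : finrank F (Submodule.span F {x}) < finrank F P := by
      apply Submodule.finrank_lt_finrank_of_lt
      refine lt_of_le_of_ne ((Submodule.span_singleton_le_iff_mem x P).2 hxP) ?_
      intro h
      have h3 : y ∈ Submodule.span F {x} := by rw [h]; exact hyP
      obtain ⟨c, hc⟩ := Submodule.mem_span_singleton.1 h3
      apply hyx
      rw [← hc, hsl, hxx, mul_zero]
    rw [finrank_span_singleton (C.ne hx)] at h2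
    omega
  · intro b hb hbb
    obtain ⟨α', β', rfl⟩ := (hmem b).1 hb
    exact C.plane hx hy hxy hux huy hww hbb hz

theorem Ctx.all (C : Ctx q Δ) {x y z : Fin n → F} (hx : Δ x) (hy : Δ y) (hz : Δ z)
    (hdet : ho q x y * ho q y z * ho q z x + ho q x z * ho q z y * ho q y x ≠ 0) {v : Fin n → F} (hv0 : v ≠ 0)
    (hv : ho q v v = 0) : Δ v := by
  have hF := C.card
  by_cases hT : Full q Δ (⊤ : Submodule F (Fin n → F))
  · exact hT v Submodule.mem_top hv0 hv
  exfalso
  have key : ∀ k : ℕ, ∃ W : Submodule F (Fin n → F), Spl q W ∧ 3 + k ≤ finrank F W ∧ Full q Δ W := by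
    intro k
    induction k with
    | zero => exact C.base hx hy hz hdet
    | succ k ih =>
      obtain ⟨W, hS, h3, hW⟩ := ih
      have h3' : 3 ≤ finrank F W := by omega
      have hWT : W ≠ ⊤ := by
        rintro rfl
        exact hT hW
      obtain ⟨w, hw, u, hu, hΔ, huu⟩ := C.exists_up hS h3' hW hWT
      have hww : ho q w w ≠ 0 := by
        have h1 := C.iso hΔ
        rw [hal, har hF, har hF, hu w hw, ho_zero_swap hF (hu w hw)] at h1
        intro h0
        apply huu
        rw [h0] at h1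
        linear_combination h1
      refine ⟨W ⊔ Submodule.span F {u}, hS.step hF hu huu, ?_, full_step C hW hw hu hΔ ?_⟩
      · have h1 : finrank F W < finrank F (W ⊔ Submodule.span F {u} : Submodule F (Fin n → F)) :=
          Submodule.finrank_lt_finrank_of_lt (lt_sup_span hu huu)
        omega
      · intro b hb hbb
        exact C.trN hS h3' hW hw hb hu hww hbb hΔ
  obtain ⟨W, -, h3, -⟩ := key n
  have h4 := Submodule.finrank_le W
  rw [Module.finrank_fin_fun] at h4
  omega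

end

/-- **PART E**: full root groups and a nondegenerate triangle of centres give all transvections -/
theorem full {H : Subgroup (GL (Fin n) F)} (D : Dat q H)
    (hall : ∀ x c d, c ≠ 0 → TM q H x c → d + d ^ q = 0 → TM q H x d)
    {x y z : Fin n → F} (hx : Cen q H x) (hy : Cen q H y) (hz : Cen q H z)
    (hdet : ho q x y * ho q y z * ho q z x + ho q x z * ho q z y * ho q y x ≠ 0) :
    ∀ a c, ho q a a = 0 → c + c ^ q = 0 → TM q H a c := by
  intro a c ha hc
  by_cases ha0 : a = 0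
  · rw [ha0] at ha ⊢
    exact ⟨ha, hc, by rw [tU_zero_center]; exact H.one_mem⟩
  · obtain ⟨-, d, hd, h⟩ := (ctx_cen D hall).all hx hy hz hdet ha0 ha
    exact hall a d c hd h hc

end Cfsg.Agent.H551.OddUnE
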