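import Mathlib
import Cfsg.Agent.S0059

/-!
# Normal complements to abelian Hall subgroups

`Burn π G` : for every prime `p ∈ π` some Sylow `p`-subgroup of `G` is central in its normaliser.

* `exists_compl` : then `G` has a normal subgroup `K` of order prime to `π`, with `|G : K|` a
  `π`-number and `G / K` abelian.
* `exists_conj_mem_centralizer` : if the class of `x` has length prime to `|H|`, `H` a solvable
  complement of the normal Hall subgroup `K`, then `x` is conjugate into `C(H)`.
* `le_centralizer_of_coprime` : if the class of `x` has length prime to `|K|`, `K` normal, then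
  `x` centralises `K`.
-/

set_option autoImplicit false

namespace Cfsg.Agent.H551.Compl

variable {G : Type*} [Group G] [Finite G]

/-- For every prime of `π` some Sylow subgroup is central in its normaliser. -/
def Burn (π : Set ℕ) (G : Type*) [Group G] : Prop :=
  ∀ p ∈ π, ∀ _ : Fact p.Prime, ∃ P : Sylow p G,
    Subgroup.normalizer ((P : Subgroup G) : Set G) ≤ Subgroup.centralizer ((P : Subgroup G) : Set G)

theorem exists_compl_prime {p : ℕ} [Fact p.Prime] {P : Sylow p G}
    (hP : Subgroup.normalizer ((P : Subgroup G) : Set G) ≤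
      Subgroup.centralizer ((P : Subgroup G) : Set G)) :
    ∃ K : Subgroup G, K.Normal ∧ ¬ p ∣ Nat.card K ∧ commutator G ≤ K ∧
      ∀ x : G, (orderOf x).Coprime p → x ∈ K := by
  refine ⟨(MonoidHom.transferSylow P hP).ker, inferInstance,
    MonoidHom.not_dvd_card_ker_transferSylow P hP, ?_, ?_⟩
  · have hc : ∀ a b : P, a * b = b * a := fun a b =>
      Subtype.ext (hP (Subgroup.le_normalizer b.2) a a.2)
    rw [commutator_def, Subgroup.commutator_le]
    intro a _ b _
    rw [MonoidHom.mem_ker, map_commutatorElement, commutatorElement_eq_one_iff_mul_comm]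
    exact hc _ _
  · intro x hx
    rw [MonoidHom.mem_ker, ← orderOf_eq_one_iff]
    have h1 : orderOf (MonoidHom.transferSylow P hP x) ∣ orderOf x := orderOf_map_dvd _ x
    have h2 : ∃ k, orderOf (MonoidHom.transferSylow P hP x) = p ^ k :=
      IsPGroup.iff_orderOf.1 P.2 _
    obtain ⟨k, hk⟩ := h2
    rw [hk] at h1 ⊢
    have h3 : (p ^ k).Coprime (p ^ k) :=
      (Nat.Coprime.coprime_dvd_left h1 (hx.pow_right k))
    exact Nat.coprime_self (p ^ k) |>.1 h3

/-- The intersection of the normal complements. -/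
theorem exists_compl {π : Set ℕ} (h : Burn π G) :
    ∃ K : Subgroup G, K.Normal ∧ (∀ p, p.Prime → p ∈ π → ¬ p ∣ Nat.card K) ∧
      (∀ p, p.Prime → p ∣ K.index → p ∈ π) ∧ commutator G ≤ K := by
  classical
  have h1 : ∀ p : {p : ℕ // p.Prime ∧ p ∈ π}, ∃ K : Subgroup G, K.Normal ∧
      ¬ (p : ℕ) ∣ Nat.card K ∧ commutator G ≤ K ∧ ∀ x : G, (orderOf x).Coprime p → x ∈ K := by
    rintro ⟨p, hp, hpπ⟩
    haveI := Fact.mk hp
    obtain ⟨P, hP⟩ := h p hpπ inferInstance
    exact exists_compl_prime hP
  choose K hKn hKd hKc hKo using h1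
  refine ⟨⨅ p, K p, Subgroup.normal_iInf_normal hKn, ?_, ?_, le_iInf hKc⟩
  · intro p hp hpπ hd
    exact hKd ⟨p, hp, hpπ⟩ (hd.trans (Subgroup.card_dvd_of_le (iInf_le K ⟨p, hp, hpπ⟩)))
  · intro t ht htd
    by_contra htπ
    haveI := Fact.mk ht
    obtain ⟨T⟩ : Nonempty (Sylow t G) := inferInstance
    have hT : (T : Subgroup G) ≤ ⨅ p, K p := by
      refine le_iInf ?_
      rintro ⟨p, hp, hpπ⟩ x hx
      apply hKo ⟨p, hp, hpπ⟩
      obtain ⟨k, hk⟩ := IsPGroup.iff_orderOf.1 T.2 ⟨x, hx⟩
      rw [Subgroup.orderOf_mk] at hk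
      rw [hk]
      apply Nat.Coprime.pow_left
      rw [Nat.coprime_primes ht hp]
      rintro rfl
      exact htπ hpπ
    exact T.not_dvd_index (htd.trans (Subgroup.index_dvd_of_le hT))

/-- If the class of `x` has length prime to the order of the normal subgroup `K` then `x`
centralises `K`. -/
theorem le_centralizer_of_coprime {K : Subgroup G} [K.Normal] {x : G}
    (h : (Subgroup.centralizer ({x} : Set G)).index.Coprime (Nat.card K)) :
    K ≤ Subgroup.centralizer ({x} : Set G) := by
  rw [← Subgroup.relIndex_eq_one]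
  have h1 : (Subgroup.centralizer ({x} : Set G)).relIndex K ∣ Nat.card K :=
    Subgroup.relIndex_dvd_card _ _
  have h2 : (Subgroup.centralizer ({x} : Set G)).relIndex K ∣
      (Subgroup.centralizer ({x} : Set G)).index := by
    -- `|K : K ∩ C| = |K C : C|`
    have h4 : (Subgroup.centralizer ({x} : Set G)).relIndex
        (Subgroup.centralizer ({x} : Set G) ⊔ K) =
        (Subgroup.centralizer ({x} : Set G)).relIndex K := by
      have a1 := Subgroup.relIndex_mul_relIndex (K ⊓ Subgroup.centralizer ({x} : Set G))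
        (Subgroup.centralizer ({x} : Set G)) (Subgroup.centralizer ({x} : Set G) ⊔ K)
        inf_le_right le_sup_left
      have a2 := Subgroup.relIndex_mul_relIndex (K ⊓ Subgroup.centralizer ({x} : Set G))
        K (Subgroup.centralizer ({x} : Set G) ⊔ K) inf_le_left le_sup_right
      rw [Subgroup.relIndex_sup_right, Subgroup.inf_relIndex_left] at a2
      rw [Subgroup.inf_relIndex_right] at a1
      rw [← a2, mul_comm] at a1
      have hpos : 0 < K.relIndex (Subgroup.centralizer ({x} : Set G)) :=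
        Nat.pos_of_ne_zero (by unfold Subgroup.relIndex; exact Subgroup.index_ne_zero_of_finite)
      exact Nat.eq_of_mul_eq_mul_right hpos a1
    rw [← h4]
    exact Subgroup.relIndex_dvd_index_of_le le_sup_left
  exact Nat.eq_one_of_dvd_coprimes h h2 h1

/-- If the class of `x` has length prime to `|G : K|`, then `x` is conjugate into `C(H)`. -/
theorem exists_conj_mem_centralizer {K H : Subgroup G} [K.Normal] (hc : Subgroup.IsComplement' K H)
    (hcop : (Nat.card K).Coprime K.index) (hsolv : Group.IsSolvable K ∨ Group.IsSolvable (G ⧸ K))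
    {x : G} (h : (Subgroup.centralizer ({x} : Set G)).index.Coprime K.index) :
    ∃ g : G, g * x * g⁻¹ ∈ Subgroup.centralizer (H : Set G) := by
  set C := Subgroup.centralizer ({x} : Set G) with hC
  have hsup : K ⊔ C = ⊤ := by
    rw [← Subgroup.index_eq_one]
    exact Nat.eq_one_of_dvd_coprimes h (Subgroup.index_dvd_of_le le_sup_right)
      (Subgroup.index_dvd_of_le le_sup_left)
  have htrans : MulAction.IsPretransitive K (G ⧸ C) := by
    have key : ∀ a : G, ∃ k : K, k • ((1 : G) : G ⧸ C) = (a : G ⧸ C) := by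
      intro a
      have ha : a ∈ K ⊔ C := by rw [hsup]; exact Subgroup.mem_top a
      rw [← SetLike.mem_coe, Subgroup.normal_mul] at ha
      obtain ⟨k, hk, c, hc', rfl⟩ := ha
      refine ⟨⟨k, hk⟩, ?_⟩
      change ((k * 1 : G) : G ⧸ C) = _
      rw [QuotientGroup.eq]
      simpa using hc'
    refine ⟨fun a b => ?_⟩
    obtain ⟨a, rfl⟩ := QuotientGroup.mk_surjective a
    obtain ⟨b, rfl⟩ := QuotientGroup.mk_surjective b
    obtain ⟨k, hk⟩ := key a
    obtain ⟨l, hl⟩ := key b
    refine ⟨l * k⁻¹, ?_⟩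
    rw [← hk, mul_smul, inv_smul_smul, hl]
  obtain ⟨⟨y, hy⟩, -⟩ := Cfsg.Agent.S0059.result (X := G ⧸ C) K H hc hcop hsolv htrans
  obtain ⟨g, rfl⟩ := QuotientGroup.mk_surjective y
  refine ⟨g, ?_⟩
  rw [Subgroup.mem_centralizer_iff]
  intro k hk
  have h1 : ((k * g : G) : G ⧸ C) = (g : G ⧸ C) := hy k hk
  rw [eq_comm, QuotientGroup.eq, ← mul_assoc] at h1
  have h2 := Subgroup.mem_centralizer_singleton_iff.1 h1
  calc k * (g * x * g⁻¹) = g * ((g⁻¹ * k * g) * x) * g⁻¹ := by group
    _ = g * (x * (g⁻¹ * k * g)) * g⁻¹ := by rw [h2]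
    _ = (g * x * g⁻¹) * k := by group

end Cfsg.Agent.H551.Compl
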