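import Mathlib
import Cfsg.Agent.H531.FMove
import Cfsg.Agent.Lib.Zsigmondy
import Cfsg.Agent.CpAutOEight.Local

/-!
# `TQ` : coprime automorphisms and class sizes divisible by a prime `q`

`TQ K` : for every automorphism `α` of `K` of prime order `p` not dividing `|K|` and every prime divisor `q` of `|K|`
some `x ∈ K` is not conjugate to `α x` and `q` divides the size of the class of `x`.

* `TQ.of_equiv`, `TQ.of_copTriv`, `TQ.of_fieldConj`;
* `exists_dvd_of_coeff` : a matrix of prime order `ℓ` over a finite field whose characteristic polynomial has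
  coefficients with `c ^ Q = c`: `ℓ ∣ Q ^ j - 1` for some `1 ≤ j ≤ n`.
-/

set_option autoImplicit false

namespace Cfsg.Agent.H551

open Cfsg.Agent.H531 Cfsg.Agent.H254

universe u v

/-- For every automorphism `α` of `K` of prime order `p` not dividing `|K|` and every prime divisor `q` of `|K|` some
`x ∈ K` generates an `α`-invariant subgroup, is moved by `α`, and has a class of size divisible by `q`. -/
def TQ (K : Type*) [Group K] : Prop :=
  ∀ (p q : ℕ) (α : MulAut K), p.Prime → q.Prime → ¬ p ∣ Nat.card K → q ∣ Nat.card K → α ^ p = 1 → α ≠ 1 →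
    ∃ x : K, α x ∈ Subgroup.zpowers x ∧ α x ≠ x ∧ q ∣ (Subgroup.centralizer ({x} : Set K)).index

theorem index_centralizer_map {K : Type*} {L : Type*} [Group K] [Group L] (e : K ≃* L) (x : K) :
    (Subgroup.centralizer ({e x} : Set L)).index = (Subgroup.centralizer ({x} : Set K)).index := by
  have h1 : Subgroup.centralizer ({x} : Set K) = (Subgroup.centralizer ({e x} : Set L)).comap e.toMonoidHom := by
    ext y
    rw [Subgroup.mem_comap, Subgroup.mem_centralizer_singleton_iff, Subgroup.mem_centralizer_singleton_iff]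
    show y * x = x * y ↔ e y * e x = e x * e y
    rw [← map_mul, ← map_mul]
    exact e.injective.eq_iff.symm
  rw [h1]
  exact (Subgroup.index_comap_of_surjective _ (f := e.toMonoidHom) e.surjective).symm

/-- Transport of a solution. -/
theorem sol_map {K : Type*} {L : Type*} [Group K] [Group L] (e : K ≃* L) {α : MulAut K} {β : MulAut L} {q : ℕ}
    (he : ∀ y, e (α y) = β (e y)) {x : L}
    (h : β x ∈ Subgroup.zpowers x ∧ β x ≠ x ∧ q ∣ (Subgroup.centralizer ({x} : Set L)).index) :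
    α (e.symm x) ∈ Subgroup.zpowers (e.symm x) ∧ α (e.symm x) ≠ e.symm x ∧
      q ∣ (Subgroup.centralizer ({e.symm x} : Set K)).index := by
  have h0 : α (e.symm x) = e.symm (β x) := by
    apply e.injective
    rw [he, e.apply_symm_apply, e.apply_symm_apply]
  refine ⟨?_, fun h1 => h.2.1 ?_, ?_⟩
  · obtain ⟨k, hk⟩ := Subgroup.mem_zpowers_iff.1 h.1
    rw [h0, ← hk, map_zpow]
    exact Subgroup.zpow_mem _ (Subgroup.mem_zpowers _) _
  · rw [h0] at h1
    exact e.symm.injective h1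
  · rw [index_centralizer_map e.symm x]
    exact h.2.2

theorem TQ.of_equiv {K : Type u} [Group K] {L : Type v} [Group L] (e : K ≃* L) (h : TQ K) : TQ L := by
  intro p q β hp hq hpL hqL hβ hβ1
  have hcard : Nat.card K = Nat.card L := Nat.card_congr e.toEquiv
  let E : MulAut L ≃* MulAut K := (MulAut.congr e).symm
  obtain ⟨x, hx⟩ := h p q (E β) hp hq (by rwa [hcard]) (by rwa [hcard]) (by rw [← map_pow, hβ, map_one])
    (fun h1 => hβ1 ((map_eq_one_iff E E.injective).1 h1))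
  refine ⟨e.symm.symm x, sol_map e.symm (α := β) (β := E β) (fun y => ?_) hx⟩
  show e.symm (β y) = e.symm (β (e (e.symm y)))
  rw [e.apply_symm_apply]

/-- every automorphism of order `p`, `p` not dividing `|K|`, is trivial -/
theorem TQ.of_copTriv {K : Type u} [Group K] (h : CopTriv K) : TQ K := by
  intro p q α hp hq hpK hqK hα hα1
  exfalso
  have ho : orderOf α = p := by
    have : Fact p.Prime := ⟨hp⟩
    exact orderOf_eq_prime hα hα1
  have h1 := h (Subgroup.zpowers α) (by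
    rw [Nat.card_zpowers, ho]
    exact (Nat.Prime.coprime_iff_not_dvd hp).2 hpK)
  exact hα1 (Subgroup.mem_bot.1 (h1 ▸ Subgroup.mem_zpowers α))

/-- Reduction to the automorphisms induced by field automorphisms. -/
theorem TQ.of_fieldConj {K : Type u} [Group K] {F : Type v} [Field F] (φ : (F ≃+* F) →* MulAut K)
    (hco : FieldConjS φ)
    (h : ∀ (p q : ℕ) (τ : F ≃+* F), p.Prime → q.Prime → ¬ p ∣ Nat.card K → q ∣ Nat.card K → φ τ ^ p = 1 → φ τ ≠ 1 →
      ∃ x : K, φ τ x ∈ Subgroup.zpowers x ∧ φ τ x ≠ x ∧ q ∣ (Subgroup.centralizer ({x} : Set K)).index) : TQ K := by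
  intro p q α hp hq hpK hqK hα hα1
  have ho : orderOf α = p := by
    have : Fact p.Prime := ⟨hp⟩
    exact orderOf_eq_prime hα hα1
  obtain ⟨g, hg⟩ := hco (Subgroup.zpowers α) (by
    rw [Nat.card_zpowers, ho]
    exact (Nat.Prime.coprime_iff_not_dvd hp).2 hpK)
  obtain ⟨τ, hτ⟩ := hg α (Subgroup.mem_zpowers α)
  obtain ⟨x, hx⟩ := h p q τ hp hq hpK hqK (by rw [← hτ, conj_pow, hα, mul_one, mul_inv_cancel]) (by
    intro h1
    apply hα1
    rw [← hτ] at h1
    have : α = g⁻¹ * (g * α * g⁻¹) * g := by group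
    rw [this, h1, mul_one, inv_mul_cancel])
  refine ⟨g.symm x, sol_map g (α := α) (β := φ τ) (fun y => ?_) hx⟩
  rw [← hτ]
  show g (α y) = g (α (g⁻¹ (g y)))
  rw [MulAut.inv_apply_self]

/-! ### invariant elements of prime order -/

/-- A linear map `f` of order dividing `p` on a nonzero vector space over the field with `ℓ` elements, `p ∣ ℓ - 1`, has an
eigenvector. -/
theorem exists_eigen {V : Type*} [AddCommGroup V] [Finite V] [Nontrivial V] {ℓ p : ℕ} [Fact ℓ.Prime]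
    [Module (ZMod ℓ) V] (hp : p ∣ ℓ - 1) (hp0 : p ≠ 0) (f : V →ₗ[ZMod ℓ] V) (hf0 : ∀ v, f^[p] v = v) :
    ∃ (v : V) (c : ZMod ℓ), v ≠ 0 ∧ f v = c • v := by
  classical
  have hf : (f : Module.End (ZMod ℓ) V) ^ p = 1 := LinearMap.ext fun v => by
    rw [Module.End.pow_apply, hf0, Module.End.one_apply]
  have hfin : Module.Finite (ZMod ℓ) V := Module.Finite.of_finite
  have h0 : (Polynomial.X ^ ℓ - Polynomial.X : Polynomial (ZMod ℓ)).Splits := by
    have h1 := FiniteField.splits_X_pow_card_sub_X (K := ZMod ℓ) ℓ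
    rwa [Polynomial.map_sub, Polynomial.map_pow, Polynomial.map_X, ZMod.card] at h1
  have h1 : (Polynomial.X ^ p - 1 : Polynomial (ZMod ℓ)).Splits := by
    refine Polynomial.Splits.of_dvd h0 (FiniteField.X_pow_card_sub_X_ne_zero _ (Fact.out (p := ℓ.Prime)).one_lt) ?_
    obtain ⟨c, hc⟩ := hp
    have h3 : ℓ = p * c + 1 := by
      have := (Fact.out (p := ℓ.Prime)).one_lt
      omega
    have h4 : (Polynomial.X ^ ℓ : Polynomial (ZMod ℓ)) = Polynomial.X ^ (p * c + 1) :=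
      congrArg (fun n => (Polynomial.X : Polynomial (ZMod ℓ)) ^ n) h3
    have h2 : (Polynomial.X ^ ℓ - Polynomial.X : Polynomial (ZMod ℓ)) =
        Polynomial.X * ((Polynomial.X ^ p) ^ c - 1 ^ c) := by
      rw [h4, ← pow_mul, one_pow]
      ring
    rw [h2]
    exact (sub_dvd_pow_sub_pow _ _ _).mul_left _
  have h2 : minpoly (ZMod ℓ) f ∣ Polynomial.X ^ p - 1 := by
    apply minpoly.dvd
    rw [map_sub, map_pow, Polynomial.aeval_X, map_one, hf, sub_self]
  have h3 : (minpoly (ZMod ℓ) f).Splits := by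
    refine Polynomial.Splits.of_dvd h1 ?_ h2
    intro h4
    have h5 := congrArg (fun P : Polynomial (ZMod ℓ) => P.coeff 0) h4
    simp [Polynomial.coeff_X_pow, hp0.symm] at h5
  have hint : IsIntegral (ZMod ℓ) f := Algebra.IsIntegral.isIntegral f
  obtain ⟨c, hc⟩ := h3.exists_eval_eq_zero (minpoly.degree_pos hint).ne'
  have h4 : Module.End.HasEigenvalue f c := Module.End.hasEigenvalue_of_isRoot hc
  obtain ⟨v, hv⟩ := h4.exists_hasEigenvector
  exact ⟨v, c, hv.2, hv.apply_eq_smul⟩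

theorem exists_eigen_add {V : Type*} [AddCommGroup V] [Finite V] [Nontrivial V] {ℓ p : ℕ} [hℓ : Fact ℓ.Prime]
    (hV : ∀ v : V, ℓ • v = 0) (hp : p ∣ ℓ - 1) (hp0 : p ≠ 0) (f : V →+ V) (hf : ∀ v, f^[p] v = v) :
    ∃ (v : V) (n : ℕ), v ≠ 0 ∧ f v = n • v := by
  let _ : Module (ZMod ℓ) V := AddCommGroup.zmodModule (n := ℓ) hV
  obtain ⟨v, c, hv, hvc⟩ := exists_eigen hp hp0 (f.toZModLinearMap ℓ) hf
  have h1 : c • v = (c.val : ℕ) • v := by
    conv_lhs => rw [← ZMod.natCast_zmod_val c]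
    exact Nat.cast_smul_eq_nsmul _ _ _
  exact ⟨v, c.val, hv, hvc.trans h1⟩

/-- An endomorphism `f` of order dividing `p` of an elementary abelian `ℓ`-group, `p ∣ ℓ - 1`, leaves a subgroup of
order `ℓ` invariant. -/
theorem exists_eigen_mul {V : Type*} [CommGroup V] [Finite V] [Nontrivial V] {ℓ p : ℕ} [hℓ : Fact ℓ.Prime]
    (hV : ∀ v : V, v ^ ℓ = 1) (hp : p ∣ ℓ - 1) (hp0 : p ≠ 0) (f : V →* V) (hf : ∀ v, f^[p] v = v) :
    ∃ (v : V) (n : ℕ), v ≠ 1 ∧ f v = v ^ n :=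
  exists_eigen_add (V := Additive V) hV hp hp0 (MonoidHom.toAdditive f) hf

/-- **An automorphism of prime order `p` with `p ∣ ℓ - 1`, `p ∤ |G|`, leaves a subgroup of order `ℓ` invariant.** -/
theorem exists_inv_orderOf {G : Type*} [Group G] [Finite G] {p ℓ : ℕ} (hp : p.Prime) (hℓ : ℓ.Prime) {α : MulAut G}
    (hα : α ^ p = 1) (hpG : ¬ p ∣ Nat.card G) (hℓG : ℓ ∣ Nat.card G) (hpℓ : p ∣ ℓ - 1) :
    ∃ x : G, orderOf x = ℓ ∧ α x ∈ Subgroup.zpowers x := by
  have hpf : Fact p.Prime := ⟨hp⟩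
  have hℓf : Fact ℓ.Prime := ⟨hℓ⟩
  obtain ⟨P, hP⟩ := CpAutOEight.exists_fixed_sylow (q := ℓ) α hα
    (fun h => hpG (h.trans ((Sylow.card_dvd_index (default : Sylow ℓ G)).trans (Subgroup.index_dvd_card _))))
  have hαP : ∀ y ∈ P, α y ∈ P := fun y hy => by
    have h1 : α y ∈ (P : Subgroup G).map α.toMonoidHom := ⟨y, hy, rfl⟩
    rw [hP] at h1
    exact h1
  have hαP' : ∀ y ∈ P, ∃ z ∈ P, α z = y := fun y hy => by
    have h1 : y ∈ (P : Subgroup G).map α.toMonoidHom := by rw [hP]; exact hy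
    obtain ⟨z, hz, e⟩ := h1
    exact ⟨z, hz, e⟩
  -- the elements of order dividing `ℓ` of the centre of `P`
  let V : Subgroup G :=
    { carrier := {z | z ∈ P ∧ (∀ y ∈ P, z * y = y * z) ∧ z ^ ℓ = 1}
      one_mem' := ⟨one_mem _, fun y _ => by rw [one_mul, mul_one], one_pow _⟩
      mul_mem' := by
        rintro a b ⟨ha, ha1, ha2⟩ ⟨hb, hb1, hb2⟩
        refine ⟨mul_mem ha hb, fun y hy => ?_, ?_⟩
        · rw [mul_assoc, hb1 y hy, ← mul_assoc, ha1 y hy, mul_assoc]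
        · rw [(show Commute a b from ha1 b hb).mul_pow, ha2, hb2, one_mul]
      inv_mem' := by
        rintro a ⟨ha, ha1, ha2⟩
        refine ⟨inv_mem ha, fun y hy => ?_, by rw [inv_pow, ha2, inv_one]⟩
        exact (show Commute a y from ha1 y hy).inv_left }
  have hV : ∀ {z : G}, z ∈ V ↔ z ∈ P ∧ (∀ y ∈ P, z * y = y * z) ∧ z ^ ℓ = 1 := Iff.rfl
  have hcomm : ∀ a b : V, a * b = b * a := fun a b => Subtype.ext (a.2.2.1 b b.2.1)
  have hαV : ∀ z ∈ V, α z ∈ V := by
    intro z hz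
    rw [hV] at hz ⊢
    refine ⟨hαP z hz.1, fun y hy => ?_, by rw [← map_pow, hz.2.2, map_one]⟩
    obtain ⟨y', hy', rfl⟩ := hαP' y hy
    rw [← map_mul, hz.2.1 y' hy', map_mul]
  let f0 : V →* V :=
    { toFun := fun z => ⟨α z, hαV z z.2⟩
      map_one' := Subtype.ext (map_one α)
      map_mul' := fun a b => Subtype.ext (map_mul α _ _) }
  have hf : ∀ (n : ℕ) (z : V), ((f0^[n] z : V) : G) = (α ^ n) (z : G) := by
    intro n
    induction n with
    | zero => intro z; rfl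
    | succ n ih =>
      intro z
      rw [Function.iterate_succ_apply', pow_succ', MulAut.mul_apply, ← ih]
      rfl
  have hnt : Nontrivial V := by
    have hP1 : Nontrivial P := by
      rw [← Finite.one_lt_card_iff_nontrivial]
      have h1 : ℓ ∣ Nat.card P := Sylow.dvd_card_of_dvd_card P hℓG
      have h2 := Nat.le_of_dvd Nat.card_pos h1
      exact lt_of_lt_of_le hℓ.one_lt h2
    have h1 := P.2.center_nontrivial
    have h2 : ℓ ∣ Nat.card (Subgroup.center P) := by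
      obtain ⟨n, hn⟩ := (IsPGroup.iff_card.1 (P.2.to_subgroup (Subgroup.center P)))
      have h3 : 1 < Nat.card (Subgroup.center P) := Finite.one_lt_card_iff_nontrivial.2 h1
      rw [hn] at h3 ⊢
      refine dvd_pow_self _ ?_
      rintro rfl
      rw [pow_zero] at h3
      exact lt_irrefl _ h3
    obtain ⟨z, hz⟩ := exists_prime_orderOf_dvd_card' ℓ h2
    have h3 : ((z : P) : G) ∈ V := by
      rw [hV]
      refine ⟨z.1.2, fun y hy => ?_, ?_⟩
      · exact (congrArg Subtype.val (Subgroup.mem_center_iff.1 z.2 ⟨y, hy⟩)).symm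
      · have h4 : z ^ ℓ = 1 := by
          have h5 := pow_orderOf_eq_one z
          rwa [hz] at h5
        have h5 := congrArg (fun t : Subgroup.center P => ((t : P) : G)) h4
        simpa using h5
    refine ⟨⟨⟨_, h3⟩, 1, fun h4 => ?_⟩⟩
    have h5 : ((z : P) : G) = 1 := congrArg Subtype.val h4
    have h6 : z = 1 := Subtype.ext (Subtype.ext h5)
    rw [h6, orderOf_one] at hz
    exact hℓ.one_lt.ne hz
  obtain ⟨v, n, hv, hvn⟩ := @exists_eigen_mul V { (inferInstance : Group V) with mul_comm := hcomm } inferInstance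
    hnt ℓ p hℓf (fun v => Subtype.ext v.2.2.2) hpℓ hp.ne_zero f0 (fun z => Subtype.ext (by rw [hf, hα]; rfl))
  have hv1 : (v : G) ≠ 1 := fun h => hv (Subtype.ext h)
  refine ⟨v, orderOf_eq_prime v.2.2.2 hv1, ?_⟩
  have h2 : α (v : G) = (v : G) ^ n := congrArg Subtype.val hvn
  rw [h2]
  exact Subgroup.npow_mem_zpowers _ _

/-! ### matrices of prime order -/

section Mat

open Polynomial

variable {ι : Type*} [Fintype ι] [DecidableEq ι] {K : Type*} [Field K]

/-- A root of the characteristic polynomial of a matrix with `g ^ ℓ = 1`. -/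
theorem root_pow_eq_one {k : Type*} [Field k] {g : Matrix ι ι k} {ℓ : ℕ} (hg : g ^ ℓ = 1) {z : k}
    (hz : g.charpoly.IsRoot z) : z ^ ℓ = 1 := by
  have h1 : (Matrix.scalar ι z - g).det = 0 := by
    rw [IsRoot.def, Matrix.eval_charpoly] at hz
    exact hz
  obtain ⟨v, hv, h2⟩ := Matrix.exists_mulVec_eq_zero_iff.2 h1
  have h3 : g.mulVec v = z • v := by
    rw [Matrix.sub_mulVec, sub_eq_zero] at h2
    rw [← h2]
    funext i
    simp [Matrix.mulVec, Matrix.scalar_apply, dotProduct, Matrix.diagonal_apply]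
  have h4 : ∀ n : ℕ, (g ^ n).mulVec v = z ^ n • v := by
    intro n
    induction n with
    | zero => simp
    | succ n ih =>
      rw [pow_succ, ← Matrix.mulVec_mulVec, h3, Matrix.mulVec_smul, ih, smul_smul, pow_succ, mul_comm]
  have h5 := h4 ℓ
  rw [hg, Matrix.one_mulVec] at h5
  obtain ⟨i, hi⟩ := Function.ne_iff.1 hv
  have h6 := congrFun h5 i
  rw [Pi.smul_apply, smul_eq_mul] at h6
  exact mul_right_cancel₀ hi (by rw [one_mul]; exact h6.symm)

/-- A matrix of prime order `ℓ`, `ℓ` not the characteristic, over an algebraically closed field has an eigenvalue `≠ 1`. -/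
theorem exists_root_ne_one {k : Type*} [Field k] [IsAlgClosed k] {r : ℕ} [hr : Fact r.Prime] [CharP k r]
    {g : Matrix ι ι k} {ℓ : ℕ} (hℓ : ℓ.Prime) (hℓr : ℓ ≠ r) (hg : g ^ ℓ = 1) (hg1 : g ≠ 1) :
    ∃ z : k, g.charpoly.IsRoot z ∧ z ≠ 1 := by
  by_contra hcon
  push Not at hcon
  have hne : g.charpoly ≠ 0 := g.charpoly_monic.ne_zero
  have h1 : g.charpoly = (X - C 1) ^ Fintype.card ι := by
    have h2 := IsAlgClosed.splits g.charpoly
    have h3 := h2.eq_prod_roots_of_monic g.charpoly_monic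
    have h4 : g.charpoly.roots = Multiset.replicate (Fintype.card ι) 1 := by
      rw [Multiset.eq_replicate]
      refine ⟨?_, fun z hz => hcon z ((Polynomial.mem_roots hne).1 hz)⟩
      rw [← g.charpoly_natDegree_eq_dim]
      exact h2.natDegree_eq_card_roots.symm
    rw [h3, h4, Multiset.map_replicate, Multiset.prod_replicate]
  have h2 : (g - 1) ^ Fintype.card ι = 0 := by
    have h3 := Matrix.aeval_self_charpoly g
    rw [h1, map_pow, map_sub, aeval_X, aeval_C, map_one] at h3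
    exact h3
  have h3 : (g - 1) ^ r ^ Fintype.card ι = 0 := by
    have h4 : Fintype.card ι ≤ r ^ Fintype.card ι := (Nat.lt_pow_self hr.out.one_lt).le
    rw [← Nat.sub_add_cancel h4, pow_add, h2, mul_zero]
  cases isEmpty_or_nonempty ι with
  | inl h => exact hg1 (Subsingleton.elim _ _)
  | inr h =>
    have : CharP (Matrix ι ι k) r := inferInstance
    rw [sub_pow_char_pow_of_commute _ _ (Commute.one_right g), one_pow, sub_eq_zero] at h3
    have h5 : orderOf g ∣ Nat.gcd ℓ (r ^ Fintype.card ι) :=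
      Nat.dvd_gcd (orderOf_dvd_of_pow_eq_one hg) (orderOf_dvd_of_pow_eq_one h3)
    have h6 : Nat.Coprime ℓ (r ^ Fintype.card ι) := ((Nat.coprime_primes hℓ hr.out).2 hℓr).pow_right _
    rw [h6] at h5
    exact hg1 (orderOf_eq_one_iff.1 (Nat.dvd_one.1 h5))

/-- **The order of `Q` modulo `ℓ`** for a matrix of prime order `ℓ` whose characteristic polynomial is defined over
the field with `Q` elements. -/
theorem exists_dvd_of_coeff {r : ℕ} [hr : Fact r.Prime] [CharP K r] {g : Matrix ι ι K} {ℓ : ℕ} (hℓ : ℓ.Prime)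
    (hℓr : ℓ ≠ r) (hg : g ^ ℓ = 1) (hg1 : g ≠ 1) {a : ℕ} (hc : ∀ i, g.charpoly.coeff i ^ (r ^ a) = g.charpoly.coeff i) :
    ∃ j, 1 ≤ j ∧ j ≤ Fintype.card ι ∧ ℓ ∣ (r ^ a) ^ j - 1 := by
  let k := AlgebraicClosure K
  have hkr : CharP k r := charP_of_injective_algebraMap (algebraMap K k).injective r
  let f : K →+* k := algebraMap K k
  set G : Matrix ι ι k := g.map f with hG
  have hG1 : G ≠ 1 := by
    intro h
    apply hg1
    ext i j
    apply f.injective
    have h2 := congrFun (congrFun h i) j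
    rw [hG, Matrix.map_apply] at h2
    rw [h2, Matrix.one_apply, Matrix.one_apply]
    split_ifs
    · rw [map_one]
    · rw [map_zero]
  have hGl : G ^ ℓ = 1 := by
    have h2 : G = f.mapMatrix g := rfl
    rw [h2, ← map_pow, hg, map_one]
  obtain ⟨z, hz, hz1⟩ := exists_root_ne_one hℓ hℓr hGl hG1
  have hzl := root_pow_eq_one hGl hz
  have hP : G.charpoly = g.charpoly.map f := by rw [hG, Matrix.charpoly_map]
  -- the Frobenius map permutes the roots
  have hstep : ∀ y : k, G.charpoly.IsRoot y → G.charpoly.IsRoot (y ^ r ^ a) := by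
    intro y hy
    rw [hP, IsRoot.def, eval_map, eval₂_eq_sum_range] at hy ⊢
    have h2 : (∑ i ∈ Finset.range (g.charpoly.natDegree + 1), f (g.charpoly.coeff i) * y ^ i) ^ r ^ a = 0 ^ r ^ a := by
      rw [hy]
    rw [zero_pow (pow_pos hr.out.pos a).ne', sum_pow_char_pow] at h2
    rw [← h2]
    refine Finset.sum_congr rfl fun i _ => ?_
    rw [mul_pow, ← map_pow, hc i, ← pow_mul, ← pow_mul, mul_comm i]
  have hiter : ∀ n : ℕ, G.charpoly.IsRoot (z ^ (r ^ a) ^ n) := by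
    intro n
    induction n with
    | zero => rwa [pow_zero, pow_one]
    | succ n ih =>
      rw [pow_succ, pow_mul]
      exact hstep _ ih
  have hne : G.charpoly ≠ 0 := G.charpoly_monic.ne_zero
  -- pigeonhole
  have hpig : ∃ m ∈ Finset.range (Fintype.card ι + 1), ∃ n ∈ Finset.range (Fintype.card ι + 1), m ≠ n ∧
      z ^ (r ^ a) ^ m = z ^ (r ^ a) ^ n := by
    classical
    refine Finset.exists_ne_map_eq_of_card_lt_of_maps_to (t := G.charpoly.roots.toFinset) ?_ ?_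
    · rw [Finset.card_range]
      refine Nat.lt_succ_of_le (le_trans (Multiset.toFinset_card_le _) ?_)
      rw [← G.charpoly_natDegree_eq_dim]
      exact Polynomial.card_roots' _
    · intro n _
      rw [Finset.mem_coe, Multiset.mem_toFinset, Polynomial.mem_roots hne]
      exact hiter n
  have key : ∀ m n : ℕ, m < n → n ≤ Fintype.card ι → z ^ (r ^ a) ^ m = z ^ (r ^ a) ^ n →
      ∃ j, 1 ≤ j ∧ j ≤ Fintype.card ι ∧ ℓ ∣ (r ^ a) ^ j - 1 := by
    intro m n hmn hn h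
    refine ⟨n - m, by omega, by omega, ?_⟩
    have ho : orderOf z = ℓ := by
      have : Fact ℓ.Prime := ⟨hℓ⟩
      exact orderOf_eq_prime hzl hz1
    have hz0 : z ≠ 0 := by
      rintro rfl
      rw [zero_pow hℓ.ne_zero] at hzl
      exact zero_ne_one hzl
    have hle : (r ^ a) ^ m ≤ (r ^ a) ^ n := Nat.pow_le_pow_right (pow_pos hr.out.pos a) hmn.le
    have h2 : z ^ ((r ^ a) ^ n - (r ^ a) ^ m) = 1 := by
      have h3 : z ^ ((r ^ a) ^ n - (r ^ a) ^ m) * z ^ (r ^ a) ^ m = 1 * z ^ (r ^ a) ^ m := by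
        rw [← pow_add, Nat.sub_add_cancel hle, one_mul, h]
      exact mul_right_cancel₀ (pow_ne_zero _ hz0) h3
    have h3 : ℓ ∣ (r ^ a) ^ n - (r ^ a) ^ m := by
      rw [← ho]
      exact orderOf_dvd_of_pow_eq_one h2
    have h4 : (r ^ a) ^ n - (r ^ a) ^ m = (r ^ a) ^ m * ((r ^ a) ^ (n - m) - 1) := by
      rw [Nat.mul_sub, mul_one, ← pow_add, Nat.add_sub_cancel' hmn.le]
    rw [h4] at h3
    refine (Nat.Coprime.dvd_mul_left ?_).1 h3
    exact Nat.Coprime.pow_right _ (Nat.Coprime.pow_right _ ((Nat.coprime_primes hℓ hr.out).2 hℓr))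
  obtain ⟨m, hm, n, hn, hmn, h⟩ := hpig
  rw [Finset.mem_range] at hm hn
  rcases lt_or_gt_of_ne hmn with h1 | h1
  · exact key m n h1 (by omega) h
  · exact key n m h1 (by omega) h.symm

end Mat

/-! ### matrix groups with field automorphisms -/

section Row

open Cfsg.Agent.H967.CopMat Cfsg.Agent.H967.CopRow

variable {ι : Type*} [Fintype ι] [DecidableEq ι] {K : Type*} [Field K] [Finite K]

/-- `Q ^ d = |K|` and `σ` of order `p` prime to `d`. -/
theorem exists_base {Q d p : ℕ} {τ : K ≃+* K} (hp : p.Prime) (hτ : orderOf τ = p) (hK : Nat.card K = Q ^ d)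
    (hd0 : d ≠ 0) (hpd : ¬ p ∣ d) : ∃ (r : ℕ) (_ : Fact r.Prime) (_ : CharP K r) (e : ℕ), e ≠ 0 ∧ Q = (r ^ e) ^ p ∧
      ∀ c : K, τ c = c → c ^ Q = c → c ^ (r ^ e) = c := by
  obtain ⟨r, hr⟩ := CharP.exists K
  have hrp : Fact r.Prime := ⟨CharP.char_is_prime K r⟩
  have hft : Fintype K := Fintype.ofFinite K
  obtain ⟨n, hrr, hn⟩ := FiniteField.card K r
  rw [← Nat.card_eq_fintype_card] at hn
  -- `Q = r ^ f`
  have h1 : Q ∣ r ^ (n : ℕ) := by rw [← hn, hK]; exact dvd_pow_self Q hd0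
  obtain ⟨f, -, hf⟩ := (Nat.dvd_prime_pow hrp.out).1 h1
  have h2 := card_Fx τ
  rw [hτ] at h2
  have h3 : Nat.card ↥(Fx τ) ∣ r ^ (n : ℕ) := by rw [← hn, h2]; exact dvd_pow_self _ hp.ne_zero
  obtain ⟨a, -, ha⟩ := (Nat.dvd_prime_pow hrp.out).1 h3
  have h4 : f * d = a * p := by
    rw [hK, hf, ha, ← pow_mul, ← pow_mul] at h2
    exact Nat.pow_right_injective hrp.out.two_le h2
  have h5 : p ∣ f := by
    have h6 : p ∣ f * d := ⟨a, by rw [h4, mul_comm]⟩
    exact (hp.dvd_mul.1 h6).resolve_right hpd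
  obtain ⟨e, he⟩ := h5
  have hae : a = e * d := by
    rw [he, mul_assoc, mul_comm a p] at h4
    exact (Nat.eq_of_mul_eq_mul_left hp.pos h4).symm
  have he0 : e ≠ 0 := by
    rintro rfl
    rw [he, mul_zero, pow_zero] at hf
    rw [hf, one_pow] at hK
    have : 1 < Nat.card K := Finite.one_lt_card
    omega
  refine ⟨r, hrp, hr, e, he0, by rw [hf, he, mul_comm, pow_mul], fun c hc hcQ => ?_⟩
  by_cases hc0 : c = 0
  · rw [hc0, zero_pow (pow_pos hrp.out.pos e).ne']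
  have h7 : c ^ (Nat.card ↥(Fx τ)) = c := by
    have hfin : Finite ↥(Fx τ) := Subtype.finite
    have hft' : Fintype ↥(Fx τ) := Fintype.ofFinite _
    have h8 := FiniteField.pow_card (⟨c, hc⟩ : ↥(Fx τ))
    rw [← Nat.card_eq_fintype_card] at h8
    exact congrArg Subtype.val h8
  have key : ∀ N : ℕ, 0 < N → c ^ N = c → c ^ (N - 1) = 1 := by
    intro N hN hcN
    have h8 : c ^ (N - 1) * c = 1 * c := by
      rw [← pow_succ, Nat.sub_add_cancel hN, one_mul, hcN]
    exact mul_right_cancel₀ hc0 h8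
  have h9 : c ^ ((r ^ e) ^ d - 1) = 1 := by
    rw [← pow_mul, ← hae, ← ha]
    exact key _ (by rw [ha]; exact pow_pos hrp.out.pos _) h7
  have h10 : c ^ ((r ^ e) ^ p - 1) = 1 := by
    rw [← pow_mul, mul_comm e p, ← he, ← hf]
    exact key _ (by rw [hf]; exact pow_pos hrp.out.pos _) hcQ
  have h11 : orderOf c ∣ Nat.gcd ((r ^ e) ^ d - 1) ((r ^ e) ^ p - 1) :=
    Nat.dvd_gcd (orderOf_dvd_of_pow_eq_one h9) (orderOf_dvd_of_pow_eq_one h10)
  rw [Nat.pow_sub_one_gcd_pow_sub_one] at h11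
  have h12 : Nat.gcd d p = 1 := ((Nat.Prime.coprime_iff_not_dvd hp).2 hpd).symm
  rw [h12, pow_one] at h11
  have h13 : c ^ (r ^ e - 1) = 1 := orderOf_dvd_iff_pow_eq_one.1 h11
  have h14 : r ^ e - 1 + 1 = r ^ e := Nat.sub_add_cancel (pow_pos hrp.out.pos e)
  rw [← h14, pow_succ, h13, one_mul]

/-- **Regular tori give moved elements.** -/
theorem exists_of_m {G : Subgroup (Matrix.GeneralLinearGroup ι K)} (R : Row G) {Q d : ℕ} (hK : Nat.card K = Q ^ d)
    (hd0 : d ≠ 0) (hd : ∀ p : ℕ, p.Prime → p ∣ d → p ∣ Nat.card ↥G) (h2G : 2 ∣ Nat.card ↥G)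
    (hinv : ∀ (g : ↥G) (i : ℕ), ((g : Matrix.GeneralLinearGroup ι K) : Matrix ι ι K).charpoly.coeff i ^ Q =
      ((g : Matrix.GeneralLinearGroup ι K) : Matrix ι ι K).charpoly.coeff i)
    {p q : ℕ} {τ : K ≃+* K} (hp : p.Prime) (hpG : ¬ p ∣ Nat.card ↥G) (hτ : fieldAut R.stab τ ^ p = 1)
    (hτp : orderOf τ = p) {m : ℕ} (hm1 : 1 ≤ m) (hm5 : Fintype.card ι < p * m) (hm6 : p * m ≠ 6)
    (hm3 : ∀ ℓ : ℕ, ℓ.Prime → orderOf (Q : ZMod ℓ) = m → ℓ ∣ Nat.card ↥G)
    (hm4 : ∀ x : ↥G, (orderOf x).Prime → orderOf (Q : ZMod (orderOf x)) = m →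
        q ∣ (Subgroup.centralizer ({x} : Set ↥G)).index) :
    ∃ x : ↥G, fieldAut R.stab τ x ∈ Subgroup.zpowers x ∧ fieldAut R.stab τ x ≠ x ∧
      q ∣ (Subgroup.centralizer ({x} : Set ↥G)).index := by
  have hfG : Finite ↥G := inferInstance
  obtain ⟨r, hr, hrK, e, he0, hQ, hfix⟩ := exists_base hp hτp hK hd0 (fun h => hpG (hd p hp h))
  have hp2 : p ≠ 2 := fun h => hpG (h ▸ h2G)
  have hp3 : 3 ≤ p := by
    have := hp.two_le
    omega
  have h1 : 2 ≤ r ^ e := le_trans hr.out.two_le (Nat.le_self_pow he0 r)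
  have h2 : 3 ≤ p * m := le_trans hp3 (Nat.le_mul_of_pos_right p hm1)
  obtain ⟨ℓ, hℓ, hℓo⟩ := Lib.Zsigmondy.exists_prime_orderOf (a := r ^ e) (n := p * m) h1 (by omega)
    (fun h => absurd h (by omega)) (fun h => hm6 h.2)
  have hℓQ : orderOf (Q : ZMod ℓ) = m := by
    rw [hQ, Nat.cast_pow, orderOf_pow' _ hp.ne_zero, hℓo, Nat.gcd_eq_right (Dvd.intro _ rfl), Nat.mul_div_cancel_left _ hp.pos]
  have hℓr : ℓ ≠ r := by
    rintro rfl
    have h3 : ((ℓ ^ e : ℕ) : ZMod ℓ) = 0 := (ZMod.natCast_eq_zero_iff _ _).2 (dvd_pow_self _ he0)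
    have hnt : Nontrivial (ZMod ℓ) := by
      have : Fact ℓ.Prime := ⟨hℓ⟩
      infer_instance
    rw [h3, orderOf_zero] at hℓo
    omega
  have hℓG := hm3 ℓ hℓ hℓQ
  have hpℓ : p ∣ ℓ - 1 := by
    refine (Dvd.intro m rfl : p ∣ p * m).trans ?_
    rw [← hℓo]
    refine Lib.Zsigmondy.orderOf_dvd_pred hℓ fun h => ?_
    exact hℓr ((Nat.prime_dvd_prime_iff_eq hℓ hr.out).1 (hℓ.dvd_of_dvd_pow h))
  obtain ⟨x, hx, hxα⟩ := exists_inv_orderOf hp hℓ hτ hpG hℓG hpℓ
  refine ⟨x, hxα, fun hfx => ?_, hm4 x (by rw [hx]; exact hℓ) (by rw [hx]; exact hℓQ)⟩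
  have hx1 : x ≠ 1 := by
    rintro rfl
    rw [orderOf_one] at hx
    exact hℓ.one_lt.ne hx
  have hxl : x ^ ℓ = 1 := by rw [← hx]; exact pow_orderOf_eq_one x
  obtain ⟨j, hj1, hj2, hj3⟩ := exists_dvd_of_coeff (K := K) (g := ((x : Matrix.GeneralLinearGroup ι K) : Matrix ι ι K))
    hℓ hℓr (a := e) (by
      have h3 := congrArg (fun t : ↥G => ((t : Matrix.GeneralLinearGroup ι K) : Matrix ι ι K)) hxl
      simpa using h3) (fun h3 => hx1 (Subtype.ext (Units.ext h3))) (fun i => by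
      refine hfix _ ?_ (hinv x i)
      have h3 : (((fieldAut R.stab τ x : ↥G) : Matrix.GeneralLinearGroup ι K) : Matrix ι ι K) =
          (((x : Matrix.GeneralLinearGroup ι K) : Matrix ι ι K)).map (τ : K →+* K) := rfl
      rw [hfx] at h3
      conv_rhs => rw [h3, Matrix.charpoly_map, Polynomial.coeff_map]
      rfl)
  have h5 : p * m ∣ j := by
    rw [← hℓo]
    exact (Lib.Zsigmondy.dvd_pow_sub_one_iff (by omega) j).1 hj3
  have := Nat.le_of_dvd (by omega) h5
  omega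

/-- **Regular tori give `TQ`** (with another possibility for some of the `q`). -/
theorem TQ.of_row' {G : Subgroup (Matrix.GeneralLinearGroup ι K)} (R : Row G) {Q d : ℕ} (hK : Nat.card K = Q ^ d)
    (hd0 : d ≠ 0) (hd : ∀ p : ℕ, p.Prime → p ∣ d → p ∣ Nat.card ↥G) (h2G : 2 ∣ Nat.card ↥G)
    (hinv : ∀ (g : ↥G) (i : ℕ), ((g : Matrix.GeneralLinearGroup ι K) : Matrix ι ι K).charpoly.coeff i ^ Q =
      ((g : Matrix.GeneralLinearGroup ι K) : Matrix ι ι K).charpoly.coeff i)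
    (H : ∀ q : ℕ, q.Prime → q ∣ Nat.card ↥G → (∃ m : ℕ, 1 ≤ m ∧
      (∀ p : ℕ, p.Prime → ¬ p ∣ Nat.card ↥G → Fintype.card ι < p * m ∧ p * m ≠ 6) ∧
      (∀ ℓ : ℕ, ℓ.Prime → orderOf (Q : ZMod ℓ) = m → ℓ ∣ Nat.card ↥G) ∧
      (∀ x : ↥G, (orderOf x).Prime → orderOf (Q : ZMod (orderOf x)) = m →
        q ∣ (Subgroup.centralizer ({x} : Set ↥G)).index)) ∨
      ∀ (p : ℕ) (τ : K ≃+* K), p.Prime → ¬ p ∣ Nat.card ↥G → orderOf τ = p →
        ∃ x : ↥G, fieldAut R.stab τ x ∈ Subgroup.zpowers x ∧ fieldAut R.stab τ x ≠ x ∧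
          q ∣ (Subgroup.centralizer ({x} : Set ↥G)).index) : TQ ↥G := by
  have hfG : Finite ↥G := inferInstance
  refine TQ.of_fieldConj (fieldAut R.stab) (FieldConjS.of_row R) ?_
  intro p q τ hp hq hpG hqG hτ hτ1
  have hτp : orderOf τ = p := by
    rw [← orderOf_injective _ R.inj]
    have : Fact p.Prime := ⟨hp⟩
    exact orderOf_eq_prime hτ hτ1
  rcases H q hq hqG with ⟨m, hm1, hm2, hm3, hm4⟩ | H'
  · obtain ⟨hm5, hm6⟩ := hm2 p hp hpG
    exact exists_of_m R hK hd0 hd h2G hinv hp hpG hτ hτp hm1 hm5 hm6 hm3 hm4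
  · exact H' p τ hp hpG hτp

/-- **Regular tori give `TQ`.** -/
theorem TQ.of_row {G : Subgroup (Matrix.GeneralLinearGroup ι K)} (R : Row G) {Q d : ℕ} (hK : Nat.card K = Q ^ d)
    (hd0 : d ≠ 0) (hd : ∀ p : ℕ, p.Prime → p ∣ d → p ∣ Nat.card ↥G) (h2G : 2 ∣ Nat.card ↥G)
    (hinv : ∀ (g : ↥G) (i : ℕ), ((g : Matrix.GeneralLinearGroup ι K) : Matrix ι ι K).charpoly.coeff i ^ Q =
      ((g : Matrix.GeneralLinearGroup ι K) : Matrix ι ι K).charpoly.coeff i)
    (H : ∀ q : ℕ, q.Prime → q ∣ Nat.card ↥G → ∃ m : ℕ, 1 ≤ m ∧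
      (∀ p : ℕ, p.Prime → ¬ p ∣ Nat.card ↥G → Fintype.card ι < p * m ∧ p * m ≠ 6) ∧
      (∀ ℓ : ℕ, ℓ.Prime → orderOf (Q : ZMod ℓ) = m → ℓ ∣ Nat.card ↥G) ∧
      (∀ x : ↥G, (orderOf x).Prime → orderOf (Q : ZMod (orderOf x)) = m →
        q ∣ (Subgroup.centralizer ({x} : Set ↥G)).index)) : TQ ↥G :=
  TQ.of_row' R hK hd0 hd h2G hinv fun q hq hqG => Or.inl (H q hq hqG)

/-- The moved element of a torus `h : Kˣ → G` compatible with the field automorphisms. -/
theorem exists_of_units {G : Subgroup (Matrix.GeneralLinearGroup ι K)} (S : Stab G) (h : Kˣ →* ↥G)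
    (hinj : Function.Injective h) (hS : ∀ (τ : K ≃+* K) (u : Kˣ), fieldAut S τ (h u) = h (Units.map (τ : K →* K) u))
    {p : ℕ} {τ : K ≃+* K} (hp : p.Prime) (hτp : orderOf τ = p) :
    ∃ x : ↥G, fieldAut S τ x ∈ Subgroup.zpowers x ∧ fieldAut S τ x ≠ x ∧ x ^ (Nat.card K - 1) = 1 ∧ x ≠ 1 := by
  obtain ⟨u, hu⟩ := IsCyclic.exists_generator (α := Kˣ)
  have h1 : fieldAut S τ (h u) ≠ h u := by
    intro h1
    rw [hS] at h1
    have h2 := hinj h1
    apply hp.one_lt.ne'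
    rw [← hτp, orderOf_eq_one_iff]
    ext c
    by_cases hc : c = 0
    · rw [hc, map_zero, map_zero]
    · obtain ⟨k, hk⟩ := Subgroup.mem_zpowers_iff.1 (hu (Units.mk0 c hc))
      have h3 : Units.map (τ : K →* K) (Units.mk0 c hc) = Units.mk0 c hc := by rw [← hk, map_zpow, h2]
      exact congrArg Units.val h3
  refine ⟨h u, ?_, h1, ?_, ?_⟩
  · rw [hS]
    obtain ⟨k, hk⟩ := Subgroup.mem_zpowers_iff.1 (hu (Units.map (τ : K →* K) u))
    rw [← hk, map_zpow]
    exact Subgroup.zpow_mem _ (Subgroup.mem_zpowers _) _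
  · rw [← map_pow, ← Nat.card_units, pow_card_eq_one', map_one]
  · intro h2
    apply h1
    rw [h2, map_one]

end Row

end Cfsg.Agent.H551
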