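import Cfsg.Agent.H551.TQFTwo
import Cfsg.Agent.H378.TwRows
import Cfsg.Agent.S1067

/-!
# `TQ` for `³D₄(q)`
-/

set_option autoImplicit false

namespace Cfsg.Agent.H551

open Cfsg Cfsg.Lie Cfsg.Lie.ChevalleyDatum Cfsg.Agent.H967.CopMat Cfsg.Agent.H967.CopRow
  Cfsg.Agent.ChevalleyStructure Cfsg.Agent.H378.ExcAdj Cfsg.Agent.H378.RegFin Polynomial

universe u

theorem tq_3d4 {K : Type u} [Field K] [Fintype K] {q : ℕ} (hq : IsPrimePow q) (hK : Fintype.card K = q ^ 3)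
    (R : Row (twistedD4 K q)) : TQ ↥(twistedD4 K q) := by
  have hcard := Cfsg.Agent.S1067.result hq hK
  have hQ0 : 1 ≤ q := hq.one_lt.le
  have hQ : q ∣ Nat.gcd 1 1 * Nat.card ↥(twistedD4 K q) := by
    rw [Nat.gcd_self, one_mul, hcard]
    exact (((dvd_pow_self _ (by norm_num)).mul_right _).mul_right _).mul_right _
  have h6 : q ^ 6 - 1 ∣ Nat.gcd 1 1 * Nat.card ↥(twistedD4 K q) := by
    rw [Nat.gcd_self, one_mul, hcard]
    exact (dvd_mul_left _ _).mul_right _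
  have h8 : q ^ 8 + q ^ 4 + 1 ∣ Nat.card ↥(twistedD4 K q) := by
    rw [hcard]
    exact dvd_mul_left _ _
  have hsmall : ∀ p : ℕ, p.Prime → ¬ p ∣ Nat.card ↥(twistedD4 K q) → 5 ≤ p := by
    intro p hp hpG
    by_contra hlt
    have h3 := hp.two_le
    have h4' : p - 1 ∣ 6 := by
      interval_cases p <;> first | (exfalso; revert hp; norm_num; done) | norm_num
    exact hpG (prime_dvd hp hQ0 hQ h6 (fun h => hp.one_lt.ne' (Nat.dvd_one.1 h)) h4')
  have hidx : Fintype.card chevD4.Idx = 28 := by decide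
  have h2 : 2 ∣ Nat.card ↥(twistedD4 K q) := prime_dvd Nat.prime_two hQ0 hQ h6 (by norm_num) (by norm_num)
  have h3 : 3 ∣ Nat.card ↥(twistedD4 K q) := prime_dvd Nat.prime_three hQ0 hQ h6 (by norm_num) (by norm_num)
  have hcent : ∀ (x : ↥(twistedD4 K q)), (orderOf x).Prime → orderOf ((q : ℕ) : ZMod (orderOf x)) = 12 →
      Nat.card ↥(Subgroup.centralizer ({x} : Set ↥(twistedD4 K q))) ∣
        ((cyclotomic 12 ℤ).eval ((q : ℕ) : ℤ)).natAbs :=
    fun x hx h => (H378.TwRows.cent_3D4 hq hK hx rfl h).2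
  obtain ⟨φ, hφ⟩ := D4Fixed.exists_frob hq hK
  refine TQ.of_row R (Q := q) (d := 3) (by rw [Nat.card_eq_fintype_card, hK]) (by norm_num)
    (fun p hp h => ?_) h2 (fun g i => ?_) fun r hr hrG => ?_
  · rw [(Nat.prime_dvd_prime_iff_eq hp Nat.prime_three).1 h]
    exact h3
  · have h4 := D4Fixed.twisted_le_fix hK hφ g.2
    rw [D4Fixed.mem_fix] at h4
    refine coeff_pow_of_conj hφ (P := GraphSymm.symmD4a.P K) ?_ i
    conv_lhs => rw [← h4]
    rfl
  by_cases h : r ∣ ((cyclotomic 12 ℤ).eval ((q : ℕ) : ℤ)).natAbs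
  · refine ⟨6, by norm_num, fun p hp hpG => ?_, fun ℓ hℓ hod => ?_, fun x hx h6' => ?_⟩
    · have := hsmall p hp hpG
      rw [hidx]
      omega
    · exact dvd_of_od hℓ hQ0 h6 dvd_rfl (by norm_num) (fun h => hℓ.one_lt.ne' (Nat.dvd_one.1 h)) hod
    · refine index_of_comm hr hrG fun y hy hc => ?_
      have h5 := hcent y (by rw [hy]; exact hr) (by rw [hy]; exact od_twelve hr h)
      have h7 := od_twelve hx (dvd_of_commute hc h5)
      omega
  · refine ⟨12, by norm_num, fun p hp hpG => ?_, fun ℓ hℓ hod => ?_, fun x hx h12 => ?_⟩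
    · have := hsmall p hp hpG
      rw [hidx]
      omega
    · have h3 : ℓ ∣ q ^ 12 - 1 := (Lib.Zsigmondy.dvd_pow_sub_one_iff hQ0 12).2 (by rw [hod])
      have h5 : ¬ ℓ ∣ q ^ 4 - 1 := fun h5 => by
        have := (Lib.Zsigmondy.dvd_pow_sub_one_iff hQ0 4).1 h5
        rw [hod] at this
        norm_num at this
      have h7 : q ^ 12 - 1 = (q ^ 4 - 1) * (q ^ 8 + q ^ 4 + 1) := by
        obtain ⟨a, ha⟩ : ∃ a, q ^ 4 = a + 1 := ⟨q ^ 4 - 1, by have := Nat.one_le_pow 4 q hQ0; omega⟩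
        have h8 : q ^ 12 = (a + 1) ^ 3 := by rw [← ha]; ring
        have h9 : q ^ 8 = (a + 1) ^ 2 := by rw [← ha]; ring
        rw [h8, h9, ha, Nat.add_sub_cancel]
        have : (a + 1) ^ 3 = a * ((a + 1) ^ 2 + (a + 1) + 1) + 1 := by ring
        rw [this, Nat.add_sub_cancel]
      rw [h7] at h3
      exact ((hℓ.dvd_mul.1 h3).resolve_left h5).trans h8
    · exact index_of_not_dvd hr hrG (hcent x hx h12) h

end Cfsg.Agent.H551
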