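import Cfsg.Agent.H551.TQFTwo
import Cfsg.Agent.S1069

/-!
# `TQ` for `²G₂(q)`
-/

set_option autoImplicit false

namespace Cfsg.Agent.H551

open Cfsg Cfsg.Lie Cfsg.Lie.ChevalleyDatum Cfsg.Agent.H967.CopMat Cfsg.Agent.H967.CopRow
  Cfsg.Agent.ChevalleyStructure Cfsg.Agent.H378.ExcAdj Cfsg.Agent.H378.RegFin Polynomial
open Cfsg.Agent.BpExc.RowsUntw Cfsg.Agent.BpExc.FamInst Cfsg.Agent.Nodes.RGDChev

universe u

/-- a prime divisor of `Φ₆(Q)`, `Q ≡ 0` modulo `3` -/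
theorem od_six {Q q : ℕ} (h3 : 3 ∣ Q) (hq : q.Prime) (h : q ∣ ((cyclotomic 6 ℤ).eval ((Q : ℕ) : ℤ)).natAbs) :
    orderOf ((Q : ℕ) : ZMod q) = 6 := by
  refine od_eq_of_dvd hq (fun h6 => ?_) h
  have h1 : ((q : ℕ) : ℤ) ∣ (cyclotomic 6 ℤ).eval ((Q : ℕ) : ℤ) := Int.natCast_dvd.2 h
  rw [cyclotomic_six] at h1
  simp only [eval_add, eval_sub, eval_pow, eval_X, eval_one] at h1
  have h2 := (ZMod.intCast_zmod_eq_zero_iff_dvd _ q).2 h1
  push_cast at h2
  have hq23 : q = 2 ∨ q = 3 := by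
    have h3 : q ∣ 2 * 3 := h6
    rcases hq.dvd_mul.1 h3 with h3 | h3
    · left
      exact (Nat.prime_dvd_prime_iff_eq hq Nat.prime_two).1 h3
    · right
      exact (Nat.prime_dvd_prime_iff_eq hq Nat.prime_three).1 h3
  rcases hq23 with rfl | rfl
  · have key : ∀ z : ZMod 2, z ^ 2 - z + 1 ≠ 0 := by decide
    exact key _ h2
  · rw [(ZMod.natCast_eq_zero_iff Q 3).2 h3] at h2
    revert h2
    decide

open Cfsg.Agent.ChevalleyStructure.Ree.Gens Cfsg.Agent.ChevalleyStructure.Ree Cfsg.Agent.LieRecognition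
  Cfsg.Agent.LieRecognition.ReeAbs Cfsg.Agent.ChevalleyStructure.Ree.Normal in
/-- the torus -/
theorem exists_units_ree {K : Type u} [Field K] [Fintype K] {m : ℕ}
    (hK : Fintype.card K = 3 ^ (2 * m + 1)) (T : Stab (twistedG2 K (3 ^ m))) :
    ∃ h : Kˣ →* ↥(twistedG2 K (3 ^ m)), Function.Injective h ∧
      ∀ (τ : K ≃+* K) (u : Kˣ), fieldAut T τ (h u) = h (Units.map (τ : K →* K) u) := by
  obtain ⟨θ, c⟩ := exists_ctx hK
  have D := Data.data c
  refine ⟨MonoidHom.mk' _ D.h_mul, ?_, ?_⟩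
  · intro u v huv
    exact ReeSplit.h_injective D huv
  · intro τ u
    exact (Cfsg.Agent.H71.FldAut.reeFld c).onH τ u

theorem tq_ree {K : Type u} [Field K] [Fintype K] {m : ℕ} (hm : 1 ≤ m)
    (hK : Fintype.card K = 3 ^ (2 * m + 1)) : TQ ↥(twistedG2 K (3 ^ m)) := by
  have hcard := Cfsg.Agent.S1069.result (K := K) hK
  rw [← hK] at hcard
  rw [← Nat.card_eq_fintype_card] at hcard
  set Q := Nat.card K with hQdef
  have hQ2 : Q = 3 ^ (2 * m + 1) := by rw [hQdef, Nat.card_eq_fintype_card, hK]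
  have hQ0 : 1 ≤ Q := Nat.card_pos
  have h3Q : 3 ∣ Q := by rw [hQ2]; exact dvd_pow_self _ (by omega)
  have hle : twistedG2 K (3 ^ m) ≤ chevG2.group K := genSubgroup_le_group g2T.inList _
  have h3 : Q ^ 3 + 1 ∣ Nat.card ↥(twistedG2 K (3 ^ m)) := by
    rw [hcard]
    exact dvd_mul_left _ _
  have hp3 : 3 ∣ Nat.card ↥(twistedG2 K (3 ^ m)) := by
    rw [hcard]
    exact ((h3Q.trans (dvd_pow_self _ (by norm_num))).mul_right _).mul_right _
  have h2 : 2 ∣ Nat.card ↥(twistedG2 K (3 ^ m)) := by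
    rw [hcard]
    refine Dvd.dvd.mul_right (Dvd.dvd.mul_left ?_ _) _
    have : ¬ 2 ∣ Q := by
      rw [hQ2]
      intro h
      exact absurd (Nat.prime_two.dvd_of_dvd_pow h) (by norm_num)
    omega
  have hsmall : ∀ p : ℕ, p.Prime → ¬ p ∣ Nat.card ↥(twistedG2 K (3 ^ m)) → 5 ≤ p := by
    intro p hp hpG
    by_contra hlt
    have h4 := hp.two_le
    have h5 : p = 2 ∨ p = 3 ∨ p = 4 := by omega
    rcases h5 with rfl | rfl | rfl
    · exact hpG h2
    · exact hpG hp3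
    · exact absurd hp (by norm_num)
  have hidx : Fintype.card chevG2.Idx = 14 := by decide
  have R := Cfsg.Agent.H967.CopSz.row_ree hm hK
  have hcent : ∀ (x : ↥(twistedG2 K (3 ^ m))), (orderOf x).Prime → orderOf ((Nat.card K : ℕ) : ZMod (orderOf x)) = 6 →
      Nat.card ↥(Subgroup.centralizer ({x} : Set ↥(twistedG2 K (3 ^ m)))) ∣
        ((cyclotomic 6 ℤ).eval ((Nat.card K : ℕ) : ℤ)).natAbs :=
    fun x hx h => cent_sub g2T inv_G2 one_ne_zero hle hx rfl h (by decide) (by norm_num)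
  refine TQ.of_row' R (Q := Nat.card K) (d := 1) (by rw [pow_one]) one_ne_zero
    (fun p hp h => absurd (Nat.dvd_one.1 h) hp.one_lt.ne') h2 (fun g i => ?_) fun q hq hqG => ?_
  · rw [Nat.card_eq_fintype_card]
    exact FiniteField.pow_card _
  by_cases h : q ∣ ((cyclotomic 6 ℤ).eval ((Nat.card K : ℕ) : ℤ)).natAbs
  · right
    intro p τ hp hpG hτ
    obtain ⟨h0, hinj, hS⟩ := exists_units_ree hK R.stab
    obtain ⟨x, hx1, hx2, hx3, hx4⟩ := exists_of_units R.stab h0 hinj hS hp hτ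
    refine ⟨x, hx1, hx2, index_of_comm hq hqG fun y hy hc => ?_⟩
    have h5 := hcent y (by rw [hy]; exact hq) (by rw [hy]; exact od_six h3Q hq h)
    have h7 := dvd_of_commute hc h5
    have h8 := orderOf_dvd_of_pow_eq_one hx3
    obtain ⟨s, hs, hsx⟩ := Nat.exists_prime_and_dvd (fun h => hx4 (orderOf_eq_one_iff.1 h))
    have h9 := od_six h3Q hs (hsx.trans h7)
    have h10 : s ∣ Q ^ 1 - 1 := by
      rw [pow_one]
      exact hsx.trans h8
    have h11 := (Lib.Zsigmondy.dvd_pow_sub_one_iff hQ0 1).1 h10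
    rw [h9] at h11
    norm_num at h11
  · left
    refine ⟨6, by norm_num, fun p hp hpG => ?_, fun ℓ hℓ hod => ?_, fun x hx h12 => ?_⟩
    · have := hsmall p hp hpG
      rw [hidx]
      omega
    · have h4 : ℓ ∣ Q ^ 6 - 1 := (Lib.Zsigmondy.dvd_pow_sub_one_iff hQ0 6).2 (by rw [hod])
      have h5 : ¬ ℓ ∣ Q ^ 3 - 1 := fun h5 => by
        have := (Lib.Zsigmondy.dvd_pow_sub_one_iff hQ0 3).1 h5
        rw [hod] at this
        norm_num at this
      have h7 : Q ^ 6 - 1 = (Q ^ 3 - 1) * (Q ^ 3 + 1) := by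
        have h7 : 1 ≤ Q ^ 3 := Nat.one_le_pow _ _ hQ0
        have h8 : Q ^ 6 = Q ^ 3 * Q ^ 3 := by ring
        rw [h8, Nat.sub_mul, Nat.mul_add, Nat.mul_add]
        omega
      rw [h7] at h4
      exact ((hℓ.dvd_mul.1 h4).resolve_left h5).trans h3
    · exact index_of_not_dvd hq hqG (hcent x hx h12) h

end Cfsg.Agent.H551
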