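import Cfsg.Agent.H551.Compl
import Cfsg.Agent.H395.Jordan
import Cfsg.Prelude.Def_Solvable

/-!
# Groups `K ⋊ H` with `K`, `H` abelian of coprime orders, all fixed points of elements of `H`
equal: the central quotient is a Frobenius group
-/

set_option autoImplicit false
open scoped Pointwise

namespace Cfsg.Agent.H551.Frob

open Cfsg.Agent.H551.Compl

variable {G : Type*} [Group G] [Finite G]

/-- `[k, h] ∈ C(h)` with `k` in a normal abelian subgroup of order prime to that of `h` implies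
`k ∈ C(h)`. -/
theorem comm_eq_one {K : Subgroup G} [K.Normal] (hK : ∀ a ∈ K, ∀ b ∈ K, a * b = b * a) {k h : G}
    (hk : k ∈ K) (hcop : (Nat.card K).Coprime (orderOf h)) (hc : (k * h * k⁻¹ * h⁻¹) * h = h * (k * h * k⁻¹ * h⁻¹)) :
    k * h = h * k := by
  set y := k * h * k⁻¹ * h⁻¹ with hy
  have hyK : y ∈ K := by
    have h1 : y = k * (h * k⁻¹ * h⁻¹) := by rw [hy]; group
    rw [h1]
    exact mul_mem hk (‹K.Normal›.conj_mem _ (inv_mem hk) h)
  have h2 : ∀ j : ℕ, h ^ j * k * (h ^ j)⁻¹ = (y ^ j)⁻¹ * k := by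
    intro j
    induction j with
    | zero => simp
    | succ j ih =>
      have h3 : h ^ (j + 1) * k * (h ^ (j + 1))⁻¹ = h * (h ^ j * k * (h ^ j)⁻¹) * h⁻¹ := by
        rw [pow_succ' h j]; group
      rw [h3, ih]
      have h4 : h * y = y * h := hc.symm
      have h5 : h * (y ^ j)⁻¹ = (y ^ j)⁻¹ * h := by
        have : Commute h (y ^ j)⁻¹ := (Commute.pow_right h4 j).inv_right
        exact this
      have h6 : h * k * h⁻¹ = y⁻¹ * k := by
        rw [hy]; group
      calc h * ((y ^ j)⁻¹ * k) * h⁻¹ = (y ^ j)⁻¹ * (h * k * h⁻¹) := by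
            rw [← mul_assoc, h5]; group
        _ = (y ^ j)⁻¹ * (y⁻¹ * k) := by rw [h6]
        _ = (y ^ (j + 1))⁻¹ * k := by rw [pow_succ' y j]; group
  have h3 := h2 (orderOf h)
  rw [pow_orderOf_eq_one, one_mul, inv_one, mul_one] at h3
  have h4 : y ^ orderOf h = 1 := by
    have : (y ^ orderOf h)⁻¹ = 1 := by
      have := h3.symm
      exact mul_eq_right.1 this
    exact inv_eq_one.1 this
  have h5 : orderOf y ∣ Nat.card K := by
    rw [← Subgroup.orderOf_mk y hyK]
    exact orderOf_dvd_natCard _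
  have h6 : orderOf y = 1 := Nat.eq_one_of_dvd_coprimes hcop h5 (orderOf_dvd_of_pow_eq_one h4)
  rw [orderOf_eq_one_iff] at h6
  rw [hy] at h6
  have h7 : k * h * k⁻¹ = h := by
    exact mul_inv_eq_one.1 h6
  exact mul_inv_eq_iff_eq_mul.1 h7

/-- `K = [K, h] C_K(h)` for `K` abelian normal of order prime to that of `h`. -/
theorem exists_decomp {K : Subgroup G} [K.Normal] (hK : ∀ a ∈ K, ∀ b ∈ K, a * b = b * a) {h : G}
    (hcop : (Nat.card K).Coprime (orderOf h)) {k : G} (hk : k ∈ K) :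
    ∃ a ∈ K, ∃ c ∈ K, c * h = h * c ∧ k = (a * h * a⁻¹ * h⁻¹) * c := by
  -- the map `(a, c) ↦ [a, h] c` from `K / C_K(h) × C_K(h)`; use that `a ↦ [a, h]` is a homomorphism
  let φ : K →* K :=
    { toFun := fun a => ⟨(a : G) * h * (a : G)⁻¹ * h⁻¹, by
        have h1 : (a : G) * h * (a : G)⁻¹ * h⁻¹ = a * (h * (a : G)⁻¹ * h⁻¹) := by group
        rw [h1]
        exact mul_mem a.2 (‹K.Normal›.conj_mem _ (inv_mem a.2) h)⟩
      map_one' := by ext; simp
      map_mul' := by
        intro a b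
        ext
        change (a * b : G) * h * (a * b : G)⁻¹ * h⁻¹ =
          ((a : G) * h * (a : G)⁻¹ * h⁻¹) * ((b : G) * h * (b : G)⁻¹ * h⁻¹)
        have h1 : (b : G) * h * (b : G)⁻¹ * h⁻¹ ∈ K := by
          have h1 : (b : G) * h * (b : G)⁻¹ * h⁻¹ = b * (h * (b : G)⁻¹ * h⁻¹) := by group
          rw [h1]
          exact mul_mem b.2 (‹K.Normal›.conj_mem _ (inv_mem b.2) h)
        have h2 : (h * (a : G)⁻¹ * h⁻¹) ∈ K := ‹K.Normal›.conj_mem _ (inv_mem a.2) h
        have h3 := hK _ h1 _ h2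
        calc (a * b : G) * h * (a * b : G)⁻¹ * h⁻¹
            = a * (((b : G) * h * (b : G)⁻¹ * h⁻¹) * (h * (a : G)⁻¹ * h⁻¹)) := by group
          _ = a * ((h * (a : G)⁻¹ * h⁻¹) * ((b : G) * h * (b : G)⁻¹ * h⁻¹)) := by rw [h3]
          _ = _ := by group }
  have hker : ∀ a : K, a ∈ φ.ker ↔ (a : G) * h = h * a := by
    intro a
    rw [MonoidHom.mem_ker, Subtype.ext_iff]
    change (a : G) * h * (a : G)⁻¹ * h⁻¹ = 1 ↔ _
    rw [mul_inv_eq_one, mul_inv_eq_iff_eq_mul]
  have hcomm : ∀ a b : K, a * b = b * a := fun a b => Subtype.ext (hK a a.2 b b.2)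
  have hdisj : φ.range ⊓ φ.ker = ⊥ := by
    rw [eq_bot_iff]
    rintro _ ⟨⟨a, rfl⟩, ha⟩
    have h1 := (hker _).1 ha
    have h2 := comm_eq_one hK a.2 hcop h1
    have h3 : a ∈ φ.ker := (hker a).2 h2
    rw [Subgroup.mem_bot]
    exact h3
  have hnorm : φ.ker.Normal := inferInstance
  have htop : φ.range ⊔ φ.ker = ⊤ := by
    apply Subgroup.eq_top_of_card_eq
    have hcard : Nat.card (φ.range ⊔ φ.ker : Subgroup K) * Nat.card (φ.range ⊓ φ.ker : Subgroup K) =
        Nat.card φ.range * Nat.card φ.ker := by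
      have a1 := Subgroup.relIndex_sup_right φ.range φ.ker
      have a2 := Subgroup.card_mul_index (φ.ker.subgroupOf (φ.range ⊔ φ.ker))
      have a3 := Subgroup.card_mul_index (φ.ker.subgroupOf φ.range)
      have a4 : (φ.ker.subgroupOf (φ.range ⊔ φ.ker)).index = (φ.ker.subgroupOf φ.range).index := a1
      have a5 : Nat.card (φ.ker.subgroupOf (φ.range ⊔ φ.ker)) = Nat.card φ.ker := by
        exact Nat.card_congr (Subgroup.subgroupOfEquivOfLe le_sup_right).toEquiv
      have a6 : Nat.card (φ.ker.subgroupOf φ.range) = Nat.card (φ.range ⊓ φ.ker : Subgroup K) := by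
        rw [← Subgroup.inf_subgroupOf_left]
        exact Nat.card_congr (Subgroup.subgroupOfEquivOfLe inf_le_left).toEquiv
      rw [a5] at a2
      rw [a6] at a3
      rw [← a2, ← a3, a4]
      ring
    rw [hdisj, Subgroup.card_bot, mul_one] at hcard
    rw [hcard, mul_comm, ← Subgroup.card_mul_index φ.ker, Subgroup.index_ker]
  have hk' : (⟨k, hk⟩ : K) ∈ φ.range ⊔ φ.ker := by rw [htop]; exact Subgroup.mem_top _
  rw [← SetLike.mem_coe, Subgroup.mul_normal] at hk'
  obtain ⟨_, ⟨a, rfl⟩, c, hc, hac⟩ := hk'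
  refine ⟨a, a.2, c, c.2, (hker c).1 hc, ?_⟩
  have := congrArg Subtype.val hac
  exact this.symm

/-- The structure theorem: `G = K H`, `K` normal abelian, `H` abelian, coprime orders, every
element of `H` either centralises `K` or has `C_K(h) = C_K(H)`, and `G` is not abelian. -/
theorem frobenius_of {K H : Subgroup G} [K.Normal] (hc : Subgroup.IsComplement' K H)
    (hcop : (Nat.card K).Coprime (Nat.card H)) (hK : ∀ a ∈ K, ∀ b ∈ K, a * b = b * a)
    (hH : ∀ a ∈ H, ∀ b ∈ H, a * b = b * a)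
    (hfix : ∀ h ∈ H, (∀ k ∈ K, k * h = h * k) ∨ ∀ k ∈ K, k * h = h * k → ∀ x ∈ H, k * x = x * k)
    (hnc : ∃ a b : G, a * b ≠ b * a) :
    ∃ H : Subgroup (G ⧸ Subgroup.center G), Cfsg.IsFrobeniusComplement H ∧ IsMulCommutative H ∧
      ∀ x ∈ Cfsg.frobeniusKernel H, ∀ y ∈ Cfsg.frobeniusKernel H, x * y = y * x := by
  have hdec : ∀ g : G, ∃ k ∈ K, ∃ h ∈ H, g = k * h := by
    intro g
    obtain ⟨⟨k, h⟩, hkh, -⟩ := hc.existsUnique g
    exact ⟨k, k.2, h, h.2, hkh.symm⟩
  have hcopo : ∀ h ∈ H, (Nat.card K).Coprime (orderOf h) := by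
    intro h hh
    apply Nat.Coprime.coprime_dvd_right _ hcop
    rw [← Subgroup.orderOf_mk h hh]
    exact orderOf_dvd_natCard _
  set π := QuotientGroup.mk' (Subgroup.center G) with hπ
  have hcenK : ∀ h ∈ H, (∀ k ∈ K, k * h = h * k) → h ∈ Subgroup.center G := by
    intro h hh h1
    rw [Subgroup.mem_center_iff]
    intro g
    obtain ⟨k, hk, x, hx, rfl⟩ := hdec g
    calc k * x * h = k * (x * h) := by group
      _ = k * (h * x) := by rw [hH x hx h hh]
      _ = (k * h) * x := by group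
      _ = h * (k * x) := by rw [h1 k hk]; group
  have hcenH : ∀ k ∈ K, (∀ x ∈ H, k * x = x * k) → k ∈ Subgroup.center G := by
    intro k hk h1
    rw [Subgroup.mem_center_iff]
    intro g
    obtain ⟨l, hl, x, hx, rfl⟩ := hdec g
    calc l * x * k = l * (x * k) := by group
      _ = l * (k * x) := by rw [h1 x hx]
      _ = (l * k) * x := by group
      _ = k * (l * x) := by rw [hK l hl k hk]; group
  refine ⟨H.map π, ⟨?_, ?_, ?_⟩, ?_, ?_⟩
  · intro hbot
    rw [Subgroup.map_eq_bot_iff, hπ, QuotientGroup.ker_mk'] at hbot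
    obtain ⟨a, b, hab⟩ := hnc
    obtain ⟨k, hk, x, hx, rfl⟩ := hdec a
    obtain ⟨l, hl, y, hy, rfl⟩ := hdec b
    apply hab
    have hx' := Subgroup.mem_center_iff.1 (hbot hx)
    have hy' := Subgroup.mem_center_iff.1 (hbot hy)
    calc k * x * (l * y) = (k * x) * l * y := by group
      _ = k * (x * l) * y := by group
      _ = k * (l * x) * y := by rw [hx' l]
      _ = (k * l) * (x * y) := by group
      _ = (l * k) * (y * x) := by rw [hK k hk l hl, hH x hx y hy]
      _ = l * (k * y) * x := by group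
      _ = l * (y * k) * x := by rw [hy' k]
      _ = l * y * (k * x) := by group
  · intro htop
    obtain ⟨a, b, hab⟩ := hnc
    have key : ∀ g : G, ∃ h ∈ H, ∃ z ∈ Subgroup.center G, g = h * z := by
      intro g
      have hg : π g ∈ H.map π := by rw [htop]; exact Subgroup.mem_top _
      obtain ⟨h, hh, hhg⟩ := hg
      refine ⟨h, hh, h⁻¹ * g, ?_, by group⟩
      rw [← QuotientGroup.eq]
      exact hhg
    obtain ⟨h, hh, z, hz, rfl⟩ := key a
    obtain ⟨h', hh', z', hz', rfl⟩ := key b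
    apply hab
    have hz1 := Subgroup.mem_center_iff.1 hz
    have hz2 := Subgroup.mem_center_iff.1 hz'
    calc h * z * (h' * z') = h * (z * h') * z' := by group
      _ = h * (h' * z) * z' := by rw [hz1 h']
      _ = (h * h') * (z * z') := by group
      _ = (h' * h) * (z' * z) := by rw [hH h hh h' hh', hz2 z]
      _ = h' * (h * z') * z := by group
      _ = h' * (z' * h) * z := by rw [hz2 h]
      _ = h' * z' * (h * z) := by group
  · intro g hg
    obtain ⟨g, rfl⟩ := QuotientGroup.mk'_surjective (Subgroup.center G) g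
    rw [eq_bot_iff]
    intro x hx
    obtain ⟨hx1, hx2⟩ := Subgroup.mem_inf.1 hx
    rw [Subgroup.mem_pointwise_smul_iff_inv_smul_mem, ← map_inv, MulAut.smul_def,
      MulAut.conj_apply, inv_inv] at hx2
    obtain ⟨h, hh, rfl⟩ := hx1
    obtain ⟨h', hh', hh2⟩ := hx2
    obtain ⟨k, hk, h1, hh1, rfl⟩ := hdec g
    -- `h' = (k h1)⁻¹ h (k h1) z`
    have e1 : (h')⁻¹ * ((k * h1)⁻¹ * h * (k * h1)) ∈ Subgroup.center G := by
      rw [← QuotientGroup.eq]
      exact hh2
    rcases hfix h hh with h2 | h2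
    · -- `h` central
      rw [Subgroup.mem_bot]
      exact (QuotientGroup.eq_one_iff _).2 (hcenK h hh h2)
    · exfalso
      apply hg
      -- `z := h'⁻¹ * h1⁻¹ k⁻¹ h k h1` is central, so conjugating by `h1` : `h'⁻¹ k⁻¹ h k` central
      have e2 : (h')⁻¹ * (k⁻¹ * h * k) ∈ Subgroup.center G := by
        have e3 : (h')⁻¹ * (k⁻¹ * h * k) =
            h1 * ((h')⁻¹ * ((k * h1)⁻¹ * h * (k * h1))) * h1⁻¹ := by
          have e4 : h1 * (h')⁻¹ = (h')⁻¹ * h1 := hH h1 hh1 _ (inv_mem hh')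
          calc (h')⁻¹ * (k⁻¹ * h * k) = ((h')⁻¹ * h1) * (h1⁻¹ * k⁻¹ * h * k) := by group
            _ = (h1 * (h')⁻¹) * (h1⁻¹ * k⁻¹ * h * k) := by rw [e4]
            _ = _ := by group
        rw [e3]
        exact (inferInstance : (Subgroup.center G).Normal).conj_mem _ e1 h1
      -- the commutator of `k⁻¹` and `h` commutes with `h`
      have hz := Subgroup.mem_center_iff.1 e2 h
      have e5 : k⁻¹ * h = h * k⁻¹ := by
        apply comm_eq_one hK (inv_mem hk) (hcopo h hh)
        have e6 : k⁻¹ * h * (k⁻¹)⁻¹ * h⁻¹ = h' * ((h')⁻¹ * (k⁻¹ * h * k)) * h⁻¹ := by group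
        have c1 : Commute h h' := hH h hh h' hh'
        have c2 : Commute h ((h')⁻¹ * (k⁻¹ * h * k)) := hz
        have c3 : Commute h (h' * ((h')⁻¹ * (k⁻¹ * h * k)) * h⁻¹) :=
          (c1.mul_right c2).mul_right (Commute.refl h).inv_right
        rw [e6]
        exact c3.symm
      have e7 : ∀ x ∈ H, k⁻¹ * x = x * k⁻¹ := h2 _ (inv_mem hk) e5
      have e8 : k⁻¹ ∈ Subgroup.center G := hcenH _ (inv_mem hk) e7
      have e9 : k ∈ Subgroup.center G := by simpa using inv_mem e8
      refine ⟨h1, hh1, ?_⟩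
      change π h1 = π (k * h1)
      rw [map_mul]
      have : π k = 1 := (QuotientGroup.eq_one_iff _).2 e9
      rw [this, one_mul]
  · refine ⟨⟨?_⟩⟩
    rintro ⟨_, x, hx, rfl⟩ ⟨_, y, hy, rfl⟩
    apply Subtype.ext
    change π x * π y = π y * π x
    rw [← map_mul, hH x hx y hy, map_mul]
  · have hker : ∀ x ∈ Cfsg.frobeniusKernel (H.map π), ∃ k ∈ K, x = π k := by
      intro x hx
      obtain ⟨g, rfl⟩ := QuotientGroup.mk'_surjective (Subgroup.center G) x
      rcases hx with hx | hx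
      · exact ⟨1, one_mem _, by rw [map_one]; exact hx⟩
      obtain ⟨k, hk, h, hh, rfl⟩ := hdec g
      rcases hfix h hh with h2 | h2
      · refine ⟨k, hk, ?_⟩
        rw [map_mul]
        have : π h = 1 := (QuotientGroup.eq_one_iff _).2 (hcenK h hh h2)
        rw [← hπ, this, mul_one]
      · exfalso
        obtain ⟨a, ha, c, hcK, hch, hk2⟩ := exists_decomp hK (hcopo h hh) hk
        have hcc : c ∈ Subgroup.center G := hcenH c hcK (h2 c hcK hch)
        apply hx (π a)
        rw [Subgroup.mem_pointwise_smul_iff_inv_smul_mem, ← map_inv, MulAut.smul_def,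
          MulAut.conj_apply, inv_inv]
        refine ⟨h, hh, ?_⟩
        have hc1 : π c = 1 := (QuotientGroup.eq_one_iff _).2 hcc
        change π h = (π a)⁻¹ * π (k * h) * π a
        have e1 : k * h = (a * h * a⁻¹) * c := by
          rw [hk2, mul_assoc, hch]
          group
        rw [e1]
        simp only [map_mul, map_inv, hc1]
        group
    intro x hx y hy
    obtain ⟨k, hk, rfl⟩ := hker x hx
    obtain ⟨l, hl, rfl⟩ := hker y hy
    rw [← map_mul, hK k hk l hl, map_mul]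

end Cfsg.Agent.H551.Frob
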