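import Cfsg.Agent.H551.OddTwo
import Cfsg.Agent.Tits.RootComb
import Cfsg.Agent.Nodes.TypeD
import Cfsg.Agent.Nodes.RootsA

/-!
# S4785, characteristic two: the Weyl groups with `-1` (helper551)

* `evenPar_of_neg` : `EvenPar M` if some element acts as `-1` on the root lattice;
* `evenPar_B`, `evenPar_D` (even rank), `evenPar_E7`, `evenPar_E8`, `evenPar_F4`, `evenPar_G2`, `evenPar_one` (rank one).
-/

set_option autoImplicit false

namespace Cfsg.Agent.H551.OddTwo

open CoxeterSystem Cfsg.Agent.ChevalleyStructure.CoxeterGeom Cfsg.Agent.Tits.Roots Cfsg.Agent.Tits.Core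
  Cfsg.Agent.Tits.RootComb

section neg

variable {I : Type*} [Fintype I] [DecidableEq I] {M : CoxeterMatrix I} {A : I → I → ℤ}

theorem evenPar_of_neg [Finite M.Group] (h : IsCartan M A) (z : M.Group)
    (hz : ∀ x, rep M.toCoxeterSystem h z x = -x) : EvenPar M := by
  have hinj := rep_injective M.toCoxeterSystem h
  refine evenPar_of_central z ?_ ?_ ?_
  · apply hinj
    rw [map_one]
    refine LinearMap.ext fun x => ?_
    rw [rep_mul_apply, hz, hz, neg_neg]
    rfl
  · intro w
    apply hinj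
    refine LinearMap.ext fun x => ?_
    rw [rep_mul_apply, rep_mul_apply, hz, hz, map_neg]
  · intro J hJ hzJ
    obtain ⟨k, hk⟩ : ∃ k, k ∉ J := by
      by_contra hcon
      push Not at hcon
      exact hJ (Set.eq_univ_of_forall hcon)
    have h1 := rep_apply_of_mem M.toCoxeterSystem h hzJ (sr k) hk
    rw [hz, Pi.neg_apply, sr_self] at h1
    omega

theorem evenPar_of_neg_sr [Finite M.Group] (h : IsCartan M A) (z : M.Group)
    (hz : ∀ i, rep M.toCoxeterSystem h z (sr i) = -sr i) : EvenPar M := by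
  refine evenPar_of_neg h z fun x => ?_
  have hx : x = ∑ k, x k • sr k := by
    funext k
    rw [Finset.sum_apply, Finset.sum_eq_single k (fun b _ hb => by
      rw [Pi.smul_apply, sr_ne hb.symm, smul_zero]) (by simp), Pi.smul_apply, sr_self, smul_eq_mul, mul_one]
  rw [hx, map_sum, ← Finset.sum_neg_distrib]
  refine Finset.sum_congr rfl fun k _ => ?_
  rw [map_smul, hz, smul_neg]

end neg

/-! ### words -/

section word

variable {l : ℕ} {M : CoxeterMatrix (Fin l)} {A : Fin l → Fin l → ℤ}

/-- a vector from a list -/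
def vec (l : ℕ) (v : List ℤ) : Fin l → ℤ := fun k => v.getD k 0

/-- the reflection on lists -/
def stepF (A : Fin l → Fin l → ℤ) (i : Fin l) (v : List ℤ) : List ℤ :=
  let c := ((List.finRange l).map fun k => A i k * v.getD k 0).sum
  (List.finRange l).map fun k => if k = i then v.getD k 0 - c else v.getD k 0

theorem vec_stepF (i : Fin l) (v : List ℤ) : vec l (stepF A i v) = refl A i (vec l v) := by
  funext k
  have h1 : ((List.finRange l).map fun k => A i k * v.getD k 0).sum = ∑ k : Fin l, A i k * v.getD k 0 := by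
    rw [← List.sum_ofFn, List.ofFn_eq_map]
  have h2 : vec l (stepF A i v) k = if k = i then v.getD k 0 - ∑ k : Fin l, A i k * v.getD k 0 else v.getD k 0 := by
    rw [← h1]
    unfold vec stepF
    rw [List.getD_eq_getElem _ _ (by simp), List.getElem_map, List.getElem_finRange]
    rfl
  rw [h2, refl_apply, Pi.sub_apply]
  unfold vec pairing
  by_cases hk : k = i
  · rw [if_pos hk, hk, Pi.single_eq_same]
  · rw [if_neg hk, Pi.single_eq_of_ne hk, sub_zero]

/-- the check -/
def negOK (l : ℕ) (A : Fin l → Fin l → ℤ) (ω : List (Fin l)) : Bool :=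
  (List.finRange l).all fun i =>
    (ω.foldr (stepF A) ((List.finRange l).map fun k => if k = i then 1 else 0)) =
      ((List.finRange l).map fun k => if k = i then -1 else 0)

theorem vec_single (i : Fin l) (c : ℤ) : vec l ((List.finRange l).map fun k => if k = i then c else 0) =
    c • sr i := by
  funext k
  unfold vec sr
  rw [List.getD_eq_getElem _ _ (by simp), List.getElem_map, List.getElem_finRange]
  simp [Pi.single_apply]

theorem evenPar_of_negOK [Finite M.Group] (h : IsCartan M A) (ω : List (Fin l)) (hω : negOK l A ω = true) :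
    EvenPar M := by
  refine evenPar_of_neg_sr h (M.toCoxeterSystem.wordProd ω) fun i => ?_
  have key : ∀ (ω : List (Fin l)) (v : List ℤ), rep M.toCoxeterSystem h (M.toCoxeterSystem.wordProd ω) (vec l v) =
      vec l (ω.foldr (stepF A) v) := by
    intro ω v
    induction ω with
    | nil => rw [wordProd_nil, map_one]; rfl
    | cons j ω ih => rw [wordProd_cons, rep_mul_apply, ih, rep_simple, List.foldr_cons, vec_stepF]
  have h1 := List.all_eq_true.1 hω i (List.mem_finRange i)
  simp only [decide_eq_true_eq] at h1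
  have h2 := key ω ((List.finRange l).map fun k => if k = i then 1 else 0)
  rw [h1, vec_single, vec_single, one_smul, neg_one_smul] at h2
  exact h2

end word

/-- the simply laced Cartan matrix -/
def cartanOf {l : ℕ} (M : CoxeterMatrix (Fin l)) (i j : Fin l) : ℤ :=
  if i = j then 2 else if M i j = 2 then 0 else -1

theorem isCartan_cartanOf {l : ℕ} (M : CoxeterMatrix (Fin l)) (hM : ∀ i j : Fin l, i ≠ j → M i j = 2 ∨ M i j = 3) :
    IsCartan M (cartanOf M) where
  diag i := by rw [cartanOf, if_pos rfl]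
  rel i j hij := by
    have hs : M j i = M i j := M.symmetric j i
    rcases hM i j hij with h1 | h1
    · left
      exact ⟨h1, by rw [cartanOf, if_neg hij, if_pos h1], by rw [cartanOf, if_neg hij.symm, hs, if_pos h1]⟩
    · right; left
      exact ⟨h1, by rw [cartanOf, if_neg hij, if_neg (by omega)],
        by rw [cartanOf, if_neg hij.symm, hs, if_neg (by omega)]⟩

theorem evenPar_E7 [Finite CoxeterMatrix.E₇.Group] : EvenPar CoxeterMatrix.E₇ := by
  refine evenPar_of_negOK (isCartan_cartanOf _ ?_)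
    ((List.replicate 9 [0, 1, 2, 3, 4, 5, 6]).flatten) ?_
  · intro i j
    fin_cases i <;> fin_cases j <;> decide
  · decide +kernel

theorem evenPar_E8 [Finite CoxeterMatrix.E₈.Group] : EvenPar CoxeterMatrix.E₈ := by
  refine evenPar_of_negOK (isCartan_cartanOf _ ?_)
    ((List.replicate 15 [0, 1, 2, 3, 4, 5, 6, 7]).flatten) ?_
  · intro i j
    fin_cases i <;> fin_cases j <;> decide
  · decide +kernel

/-- a Cartan matrix of type `F₄` -/
def AF4 : Fin 4 → Fin 4 → ℤ := ![![2, -1, 0, 0], ![-1, 2, -2, 0], ![0, -1, 2, -1], ![0, 0, -1, 2]]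

theorem isCartan_F4 : IsCartan CoxeterMatrix.F₄ AF4 where
  diag i := by fin_cases i <;> rfl
  rel i j := by
    fin_cases i <;> fin_cases j <;> decide

theorem evenPar_F4 [Finite CoxeterMatrix.F₄.Group] : EvenPar CoxeterMatrix.F₄ := by
  refine evenPar_of_negOK isCartan_F4 ((List.replicate 6 [0, 1, 2, 3]).flatten) ?_
  decide +kernel

/-- a Cartan matrix of type `G₂` -/
def AG2 : Fin 2 → Fin 2 → ℤ := ![![2, -1], ![-3, 2]]

theorem isCartan_G2 : IsCartan CoxeterMatrix.G₂ AG2 where
  diag i := by fin_cases i <;> rfl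
  rel i j := by
    fin_cases i <;> fin_cases j <;> decide

theorem evenPar_G2 [Finite CoxeterMatrix.G₂.Group] : EvenPar CoxeterMatrix.G₂ := by
  refine evenPar_of_negOK isCartan_G2 ((List.replicate 3 [0, 1]).flatten) ?_
  decide +kernel

theorem evenPar_one (M : CoxeterMatrix (Fin 1)) [Finite M.Group] : EvenPar M := by
  refine evenPar_of_negOK (A := fun _ _ => 2) ⟨fun _ => rfl, fun i j hij => absurd (Subsingleton.elim i j) hij⟩ [0] ?_
  decide +kernel

/-! ### Words in maps -/

/-- `f` is a product of the maps `g i` -/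
def Gen {l : ℕ} {X : Type*} (g : Fin l → X → X) (f : X → X) : Prop := ∃ ω : List (Fin l), ∀ x, ω.foldr g x = f x

section gen

variable {l : ℕ} {X : Type*} {g : Fin l → X → X}

theorem Gen.id : Gen g fun x => x := ⟨[], fun _ => rfl⟩

theorem Gen.simple (i : Fin l) : Gen g (g i) := ⟨[i], fun _ => rfl⟩

theorem Gen.comp {a b : X → X} (ha : Gen g a) (hb : Gen g b) : Gen g fun x => a (b x) := by
  obtain ⟨ω, h1⟩ := ha
  obtain ⟨ω', h2⟩ := hb
  exact ⟨ω ++ ω', fun x => by rw [List.foldr_append, h2, h1]⟩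

theorem Gen.congr {a b : X → X} (ha : Gen g a) (h : ∀ x, a x = b x) : Gen g b := by
  obtain ⟨ω, h1⟩ := ha
  exact ⟨ω, fun x => (h1 x).trans (h x)⟩

end gen

/-! ### Type `B_n` -/

section TypeB

open Cfsg.Agent.Nodes.TypeC

variable {n : ℕ}

/-- the sign change of the index `k` -/
def flipB (k : ℕ) (x : Fin n × Bool) : Fin n × Bool := if (x.1 : ℕ) = k then ng x else x

theorem flipB_pos {k : ℕ} {x : Fin n × Bool} (h : (x.1 : ℕ) = k) : flipB k x = ng x := if_pos h

theorem flipB_neg {k : ℕ} {x : Fin n × Bool} (h : (x.1 : ℕ) ≠ k) : flipB k x = x := if_neg h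

theorem gen_flipB (d : ℕ) : ∀ k : ℕ, k + d + 1 = n → Gen (sg (n := n)) (flipB k) := by
  induction d with
  | zero =>
    intro k hk
    refine (Gen.simple (⟨k, by omega⟩ : Fin n)).congr ?_
    rintro ⟨i, s⟩
    by_cases h : (i : ℕ) = k
    · have hi : i = (⟨k, by omega⟩ : Fin n) := Fin.ext h
      rw [flipB_pos h, hi, sg_last (by simp only; omega)]
      rfl
    · rw [flipB_neg h, sg_of_ne (fun e => h (congrArg Fin.val e)) (by have := i.2; simp only; omega)]
  | succ d ih =>
    intro k hk
    obtain ⟨i, rfl⟩ : ∃ i : Fin n, (i : ℕ) = k := ⟨⟨k, by omega⟩, rfl⟩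
    have hi : (i : ℕ) + 1 < n := by omega
    have h2 := Gen.simple (g := sg (n := n)) i
    refine (h2.comp ((ih (i + 1) (by omega)).comp h2)).congr fun x => ?_
    have h3 : ((sg i x).1 : ℕ) = (if (x.1 : ℕ) = i then (i : ℕ) + 1 else if (x.1 : ℕ) = i + 1 then (i : ℕ) else x.1) := by
      obtain ⟨a, s⟩ := x
      unfold sg
      rw [dif_pos hi]
      by_cases ha : a = i
      · rw [if_pos ha, if_pos (congrArg Fin.val ha)]
      · rw [if_neg ha, if_neg (fun e => ha (Fin.ext e))]
        by_cases hb : a = ⟨i + 1, hi⟩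
        · rw [if_pos hb, if_pos (congrArg Fin.val hb)]
        · rw [if_neg hb, if_neg (fun e => hb (Fin.ext e))]
    by_cases h4 : (x.1 : ℕ) = i
    · rw [flipB_pos h4, flipB_pos (by rw [h3, if_pos h4]), sg_ng, sg_sg]
    · rw [flipB_neg h4, flipB_neg (by rw [h3]; split_ifs <;> omega), sg_sg]

theorem gen_ngB : Gen (sg (n := n)) ng := by
  have key : ∀ m : ℕ, m ≤ n → Gen (sg (n := n)) (fun x => if (x.1 : ℕ) < m then ng x else x) := by
    intro m
    induction m with
    | zero => intro _; exact Gen.id.congr fun x => by simp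
    | succ m ih =>
      intro hm
      refine ((gen_flipB (n - m - 1) m (by omega)).comp (ih (by omega))).congr ?_
      intro x
      rcases lt_trichotomy (x.1 : ℕ) m with h2 | h2 | h2
      · have h3 : (x.1 : ℕ) < m + 1 := by omega
        rw [if_pos h2, if_pos h3, flipB_neg (by rw [ng_fst]; omega)]
      · have h3 : (x.1 : ℕ) < m + 1 := by omega
        have h4 : ¬ (x.1 : ℕ) < m := by omega
        rw [if_neg h4, if_pos h3, flipB_pos h2]
      · have h3 : ¬ (x.1 : ℕ) < m + 1 := by omega
        have h4 : ¬ (x.1 : ℕ) < m := by omega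
        rw [if_neg h4, if_neg h3, flipB_neg (by omega)]
  exact (key n le_rfl).congr fun x => by rw [if_pos x.1.2]

theorem evenPar_B [Finite (CoxeterMatrix.B n).Group] : EvenPar (CoxeterMatrix.B n) := by
  obtain ⟨ω, hω⟩ := gen_ngB (n := n)
  refine evenPar_of_neg_sr (isCartan n) ((CoxeterMatrix.B n).toCoxeterSystem.wordProd ω) fun i => ?_
  have key : ∀ (ω : List (Fin n)) (x : Fin n → ℤ) (a b : Fin n × Bool), ee x = wt a + wt b →
      ee (rep (CoxeterMatrix.B n).toCoxeterSystem (isCartan n) ((CoxeterMatrix.B n).toCoxeterSystem.wordProd ω) x) =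
        wt (ω.foldr sg a) + wt (ω.foldr sg b) := by
    intro ω x a b hx
    induction ω with
    | nil => rw [wordProd_nil, map_one]; exact hx
    | cons j ω ih => rw [wordProd_cons, rep_mul_apply, rep_simple, ee_refl_of ih]; rfl
  apply ee_injective
  rw [key ω (sr i) (i, true) (nx i) (ee_sr i), hω, hω, wt_ng, wt_ng, ee_neg, ee_sr, bt]
  abel

end TypeB

/-! ### Type `D_{n+2}`, `n` even -/

section TypeD

open Cfsg.Agent.Nodes.TypeC (ng wt wt_ng ng_fst)
open Cfsg.Agent.Nodes.TypeD

variable {n : ℕ}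

/-- the sign changes of the indices `k` and `m` -/
def flipD (k m : ℕ) (x : Fin (n + 2) × Bool) : Fin (n + 2) × Bool := if (x.1 : ℕ) = k ∨ (x.1 : ℕ) = m then ng x else x

theorem flipD_pos {k m : ℕ} {x : Fin (n + 2) × Bool} (h : (x.1 : ℕ) = k ∨ (x.1 : ℕ) = m) : flipD k m x = ng x :=
  if_pos h

theorem flipD_neg {k m : ℕ} {x : Fin (n + 2) × Bool} (h : ¬ ((x.1 : ℕ) = k ∨ (x.1 : ℕ) = m)) : flipD k m x = x :=
  if_neg h

/-- conjugation by a transposition -/
theorem conj_flip {i : Fin (n + 2)} (hi : (i : ℕ) + 1 < n + 2) {k m k' m' : ℕ} (hf : Gen (sg (n := n)) (flipD k m))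
    (h1 : ∀ j : ℕ, (j = k' ∨ j = m') ↔ ((if j = i then (i : ℕ) + 1 else if j = i + 1 then (i : ℕ) else j) = k ∨
      (if j = i then (i : ℕ) + 1 else if j = i + 1 then (i : ℕ) else j) = m)) :
    Gen (sg (n := n)) (flipD k' m') := by
  have h2 := Gen.simple (g := sg (n := n)) i
  refine (h2.comp (hf.comp h2)).congr fun x => ?_
  have h3 : ((sg i x).1 : ℕ) = (if (x.1 : ℕ) = i then (i : ℕ) + 1 else if (x.1 : ℕ) = i + 1 then (i : ℕ) else x.1) := by
    obtain ⟨a, s⟩ := x
    unfold sg
    rw [dif_pos hi]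
    by_cases ha : a = i
    · rw [if_pos ha, if_pos (congrArg Fin.val ha)]
    · rw [if_neg ha, if_neg (fun e => ha (Fin.ext e))]
      by_cases hb : a = ⟨i + 1, hi⟩
      · rw [if_pos hb, if_pos (congrArg Fin.val hb)]
      · rw [if_neg hb, if_neg (fun e => hb (Fin.ext e))]
  by_cases h4 : (x.1 : ℕ) = k' ∨ (x.1 : ℕ) = m'
  · rw [flipD_pos h4, flipD_pos (by rw [h3]; exact (h1 _).1 h4), sg_ng, sg_sg]
  · rw [flipD_neg h4, flipD_neg (by rw [h3]; exact fun h5 => h4 ((h1 _).2 h5)), sg_sg]

theorem gen_flipD (d : ℕ) : ∀ k : ℕ, k + d = n → Gen (sg (n := n)) (flipD k (k + 1)) := by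
  induction d with
  | zero =>
    intro k hk
    refine ((Gen.simple (⟨k, by omega⟩ : Fin (n + 2))).comp (Gen.simple (⟨k + 1, by omega⟩ : Fin (n + 2)))).congr ?_
    rintro ⟨i, s⟩
    have hk1 : ((⟨k, by omega⟩ : Fin (n + 2)) : ℕ) + 1 < n + 2 := by simp only; omega
    have hk2 : ¬ (((⟨k + 1, by omega⟩ : Fin (n + 2)) : ℕ) + 1 < n + 2) := by simp only; omega
    have hpd : pd n = (⟨k, by omega⟩ : Fin (n + 2)) := Fin.ext (by simp only [pd]; omega)
    by_cases h3 : (i : ℕ) = k + 1
    · have hi : i = (⟨k + 1, by omega⟩ : Fin (n + 2)) := Fin.ext h3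
      rw [flipD_pos (Or.inr h3), hi, sg_last hk2, hpd, sg_up hk1]
      rfl
    · by_cases h2 : (i : ℕ) = k
      · have hi : i = (⟨k, by omega⟩ : Fin (n + 2)) := Fin.ext h2
        have h5 : sg (⟨k + 1, by omega⟩ : Fin (n + 2)) (i, s) = ((⟨k + 1, by omega⟩ : Fin (n + 2)), !s) := by
          have h6 := sg_last hk2 (!s)
          rw [Bool.not_not, hpd, ← hi] at h6
          rw [← h6, sg_sg]
        rw [flipD_pos (Or.inl h2), h5]
        have h7 := sg_down hk1 (!s)
        rw [hi]
        exact h7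
      · have hi := i.2
        have h4 : ((i, s).1 : ℕ) < n := by simp only; omega
        have h5 : ¬ (((i, s).1 : ℕ) = k ∨ ((i, s).1 : ℕ) = k + 1) := by simp only; omega
        rw [flipD_neg h5, sg_last_of_ne hk2 h4, sg_of_ne hk1 (fun e => h2 (congrArg Fin.val e)) h3]
  | succ d ih =>
    intro k hk
    have h1 : Gen (sg (n := n)) (flipD k (k + 2)) :=
      conj_flip (i := ⟨k, by omega⟩) (by simp only; omega) (ih (k + 1) (by omega)) (by
        intro j
        simp only
        split_ifs <;> omega)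
    exact conj_flip (i := ⟨k + 1, by omega⟩) (by simp only; omega) h1 (by
        intro j
        simp only
        split_ifs <;> omega)

theorem gen_ngD (hn : Even n) : Gen (sg (n := n)) ng := by
  have key : ∀ m : ℕ, 2 * m ≤ n + 2 → Gen (sg (n := n)) (fun x => if (x.1 : ℕ) < 2 * m then ng x else x) := by
    intro m
    induction m with
    | zero => intro _; exact Gen.id.congr fun x => by simp
    | succ m ih =>
      intro hm
      refine ((gen_flipD (n - 2 * m) (2 * m) (by omega)).comp (ih (by omega))).congr ?_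
      intro x
      by_cases h2 : (x.1 : ℕ) < 2 * m
      · have h3 : (x.1 : ℕ) < 2 * (m + 1) := by omega
        rw [if_pos h2, if_pos h3, flipD_neg (by rw [ng_fst]; omega)]
      · by_cases h3 : (x.1 : ℕ) < 2 * (m + 1)
        · rw [if_neg h2, if_pos h3, flipD_pos (by omega)]
        · rw [if_neg h2, if_neg h3, flipD_neg (by omega)]
  obtain ⟨m, hm⟩ := hn
  exact (key (m + 1) (by omega)).congr fun x => by rw [if_pos (by have := x.1.2; omega)]

theorem evenPar_D (hn : Even n) [Finite (M n).Group] : EvenPar (M n) := by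
  obtain ⟨ω, hω⟩ := gen_ngD (n := n) hn
  refine evenPar_of_neg_sr (isCartan n) ((M n).toCoxeterSystem.wordProd ω) fun i => ?_
  have key : ∀ (ω : List (Fin (n + 2))) (x : Fin (n + 2) → ℤ) (a b : Fin (n + 2) × Bool), ee x = wt a + wt b →
      ee (rep (M n).toCoxeterSystem (isCartan n) ((M n).toCoxeterSystem.wordProd ω) x) =
        wt (ω.foldr sg a) + wt (ω.foldr sg b) := by
    intro ω x a b hx
    induction ω with
    | nil => rw [wordProd_nil, map_one]; exact hx
    | cons j ω ih => rw [wordProd_cons, rep_mul_apply, rep_simple, ee_refl_of ih]; rfl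
  apply ee_injective
  rw [key ω (sr i) (i, true) (nx i) (ee_sr i), hω, hω, wt_ng, wt_ng, ee_neg, ee_sr, bt]
  abel

end TypeD

end Cfsg.Agent.H551.OddTwo
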